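import Mathlib

/-!
# Schur: a cyclic group of composite prime power order is a B-group

`exists_invariant_of_not_transitive` : a permutation group on `ZMod (p ^ m)`, `m ≥ 2`, containing the
translations, whose point stabiliser is not transitive on the other points, has a proper nontrivial
invariant subgroup of `ZMod (p ^ m)`.
-/

set_option autoImplicit false

namespace Cfsg.Agent.BGroups.CyclicB

open Finset

variable {n : ℕ} [NeZero n]

/-- The additive stabiliser of a finite set. -/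
def rad (B : Finset (ZMod n)) : AddSubgroup (ZMod n) where
  carrier := {h | ∀ x ∈ B, x + h ∈ B}
  zero_mem' := fun x hx => by rwa [add_zero]
  add_mem' := fun {a b} ha hb x hx => by rw [← add_assoc]; exact hb _ (ha x hx)
  neg_mem' := fun {a} ha => by
    intro x hx
    have hk : ∀ k : ℕ, ∀ x ∈ B, x + k • a ∈ B := by
      intro k
      induction k with
      | zero => intro x hx; rwa [zero_nsmul, add_zero]
      | succ k ih => intro x hx; rw [succ_nsmul, ← add_assoc]; exact ha _ (ih x hx)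
    have h1 := hk (n - 1) x hx
    rwa [show (n - 1) • a = -a by
      rw [nsmul_eq_mul, Nat.cast_sub (Nat.one_le_iff_ne_zero.2 (NeZero.ne n)), ZMod.natCast_self, Nat.cast_one]
      ring] at h1

omit [NeZero n] in
theorem inv_diff {H : Subgroup (Equiv.Perm (ZMod n))} (htr : ∀ a, Equiv.addRight a ∈ H) {A : Set (ZMod n)}
    (hA : ∀ σ ∈ H, σ 0 = 0 → ∀ x ∈ A, σ x ∈ A) {σ : Equiv.Perm (ZMod n)} (hσ : σ ∈ H) {x y : ZMod n}
    (h : y - x ∈ A) : σ y - σ x ∈ A := by
  have h0 := hA (Equiv.addRight (-σ x) * σ * Equiv.addRight x) (mul_mem (mul_mem (htr _) hσ) (htr _))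
    (by simp) _ h
  simpa [sub_eq_add_neg] using h0

/-- The subgroup generated by an invariant set is invariant. -/
theorem closure_invariant {H : Subgroup (Equiv.Perm (ZMod n))} (htr : ∀ a, Equiv.addRight a ∈ H)
    {A : Set (ZMod n)} (hA : ∀ σ ∈ H, σ 0 = 0 → ∀ x ∈ A, σ x ∈ A) :
    ∀ σ ∈ H, σ 0 = 0 → ∀ x ∈ AddSubgroup.closure A, σ x ∈ AddSubgroup.closure A := by
  intro σ hσ h0 x hx
  have key : ∀ y, σ (y + x) - σ y ∈ AddSubgroup.closure A := by
    induction hx using AddSubgroup.closure_induction with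
    | mem a ha =>
      intro y
      exact AddSubgroup.subset_closure (inv_diff htr hA hσ (by simpa using ha))
    | zero => intro y; simp
    | add a b _ _ ha hb =>
      intro y
      have := add_mem (hb (y + a)) (ha y)
      rwa [sub_add_sub_cancel, add_assoc] at this
    | neg a _ ha =>
      intro y
      have := neg_mem (ha (y + -a))
      simpa using this
  simpa [h0] using key 0

/-- Number of ways to write `h` as a difference of elements of `T`, with invariance built in. -/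
def lam (T : Finset (ZMod n)) (h : ZMod n) : ℕ := #{y | 0 - y ∈ T ∧ h - y ∈ T}

theorem lam_eq (T : Finset (ZMod n)) (h : ZMod n) : lam T h = #{x ∈ T | x + h ∈ T} := by
  refine card_nbij' (fun y => -y) (fun x => -x) ?_ ?_ ?_ ?_ <;> intro a ha <;>
    simp_all [sub_eq_add_neg, add_comm]

theorem lam_invariant {H : Subgroup (Equiv.Perm (ZMod n))} (htr : ∀ a, Equiv.addRight a ∈ H)
    {T : Finset (ZMod n)} (hT : ∀ σ ∈ H, σ 0 = 0 → ∀ x ∈ T, σ x ∈ T) {σ : Equiv.Perm (ZMod n)} (hσ : σ ∈ H)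
    (h0 : σ 0 = 0) (h : ZMod n) : lam T (σ h) = lam T h := by
  have key : ∀ τ ∈ H, τ 0 = 0 → ∀ h, lam T h ≤ lam T (τ h) := by
    intro τ hτ hτ0 h
    refine card_le_card_of_injOn τ (fun y hy => ?_) τ.injective.injOn
    simp only [Finset.mem_coe, mem_filter, mem_univ, true_and] at hy ⊢
    have h1 := inv_diff htr (A := (↑T : Set (ZMod n))) hT hτ (x := y) (y := 0) hy.1
    rw [hτ0] at h1
    exact ⟨h1, inv_diff htr (A := (↑T : Set (ZMod n))) hT hτ hy.2⟩
  refine le_antisymm ?_ (key σ hσ h0 h)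
  have hi : σ⁻¹ 0 = 0 := by rw [Equiv.Perm.inv_eq_iff_eq, h0]
  simpa using key σ⁻¹ (inv_mem hσ) hi (σ h)

section PrimePow

variable {p m : ℕ} [hp : Fact p.Prime]

/-- The fibre counts of multiplication by `p` are invariant modulo `p`. -/
theorem fibre_invariant {H : Subgroup (Equiv.Perm (ZMod n))} (htr : ∀ a, Equiv.addRight a ∈ H)
    {T : Finset (ZMod n)} (hT : ∀ σ ∈ H, σ 0 = 0 → ∀ x ∈ T, σ x ∈ T) {σ : Equiv.Perm (ZMod n)} (hσ : σ ∈ H)
    (h0 : σ 0 = 0) (y : ZMod n) :
    ((#{x ∈ T | p • x = σ y} : ℕ) : ZMod p) = ((#{x ∈ T | p • x = y} : ℕ) : ZMod p) := by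
  classical
  let S : AddMonoidAlgebra (ZMod p) (ZMod n) := ∑ x ∈ T, AddMonoidAlgebra.single x 1
  have hstep : ∀ (f : AddMonoidAlgebra (ZMod p) (ZMod n)) (z : ZMod n),
      (S * f).coeff z = ∑ w, if z - w ∈ T then f.coeff w else 0 := by
    intro f z
    rw [← Finset.sum_filter, Finset.sum_mul, AddMonoidAlgebra.coeff_sum, Finset.sum_apply']
    refine Finset.sum_nbij' (fun x => -x + z) (fun w => z - w) ?_ ?_ ?_ ?_ ?_
    · intro a ha; simp_all
    · intro a ha; simp_all
    · intro a _; simp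
    · intro a _; simp
    · intro a _
      rw [AddMonoidAlgebra.coeff_single_mul_apply, one_mul]
  have hinv : ∀ (k : ℕ) (τ : Equiv.Perm (ZMod n)), τ ∈ H → τ 0 = 0 → ∀ z, (S ^ k).coeff (τ z) = (S ^ k).coeff z := by
    intro k
    induction k with
    | zero =>
      intro τ _ hτ z
      simp only [pow_zero, AddMonoidAlgebra.one_def, AddMonoidAlgebra.coeff_single, Finsupp.single_apply]
      refine if_congr ⟨fun h => τ.injective (by rw [hτ, ← h]), fun h => by rw [← h, hτ]⟩ rfl rfl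
    | succ k ih =>
      intro τ hτH hτ z
      rw [pow_succ', hstep, hstep, ← Equiv.sum_comp τ]
      refine Finset.sum_congr rfl fun w _ => ?_
      rw [ih τ hτH hτ w]
      refine if_congr ⟨fun h => ?_, fun h => inv_diff htr (A := (↑T : Set (ZMod n))) hT hτH h⟩ rfl rfl
      have := inv_diff htr (A := (↑T : Set (ZMod n))) hT (inv_mem hτH) h
      simpa using this
  have hchar : CharP (AddMonoidAlgebra (ZMod p) (ZMod n)) p :=
    charP_of_injective_ringHom (f := AddMonoidAlgebra.singleZeroRingHom)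
      (fun a b h => AddMonoidAlgebra.single_right_injective h) p
  have hpow : ∀ z, (S ^ p).coeff z = ((#{x ∈ T | p • x = z} : ℕ) : ZMod p) := by
    intro z
    rw [sum_pow_char, AddMonoidAlgebra.coeff_sum, Finset.sum_apply', ← Finset.sum_boole]
    refine Finset.sum_congr rfl fun x _ => ?_
    simp only [AddMonoidAlgebra.single_pow, one_pow, AddMonoidAlgebra.coeff_single, Finsupp.single_apply]
  rw [← hpow, ← hpow]
  exact hinv p σ hσ h0 y

variable (hn : n = p ^ m) (hm : 2 ≤ m)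

include hn hm

theorem card_torsion_le : #{x : ZMod n | p • x = 0} ≤ p :=
  IsAddCyclic.card_nsmul_eq_zero_le hp.out.pos

/-- Schur's theorem. -/
theorem exists_invariant_of_not_transitive {H : Subgroup (Equiv.Perm (ZMod n))}
    (htr : ∀ a, Equiv.addRight a ∈ H) {u v : ZMod n} (hu : u ≠ 0) (hv : v ≠ 0)
    (huv : ∀ σ ∈ H, σ 0 = 0 → σ u ≠ v) :
    ∃ D : AddSubgroup (ZMod n), D ≠ ⊥ ∧ D ≠ ⊤ ∧ ∀ σ ∈ H, σ 0 = 0 → ∀ x ∈ D, σ x ∈ D := by
  classical
  by_contra hall
  push Not at hall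
  have htriv : ∀ D : AddSubgroup (ZMod n), (∀ σ ∈ H, σ 0 = 0 → ∀ x ∈ D, σ x ∈ D) → D = ⊥ ∨ D = ⊤ := by
    intro D hD
    by_cases hb : D = ⊥
    · exact Or.inl hb
    refine Or.inr (by_contra fun ht => ?_)
    obtain ⟨σ, hσ, h0, x, hx, hx'⟩ := hall D hb ht
    exact hx' (hD σ hσ h0 x hx)
  have hpn : p ∣ n := hn ▸ dvd_pow_self p (by omega)
  let φ : ZMod n →+* ZMod p := ZMod.castHom hpn (ZMod p)
  have hgen : ∀ A : Set (ZMod n), (∀ σ ∈ H, σ 0 = 0 → ∀ x ∈ A, σ x ∈ A) → ∀ a ∈ A, a ≠ 0 →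
      ∃ b ∈ A, φ b ≠ 0 := by
    intro A hA a ha ha0
    by_contra hall
    push Not at hall
    have htop : AddSubgroup.closure A = ⊤ := (htriv _ (closure_invariant htr hA)).resolve_left fun h =>
      ha0 (by have := AddSubgroup.subset_closure (k := A) ha; rwa [h, SetLike.mem_coe, AddSubgroup.mem_bot] at this)
    have hle : AddSubgroup.closure A ≤ (φ : ZMod n →+ ZMod p).ker :=
      (AddSubgroup.closure_le _).2 fun b hb => hall b hb
    rw [htop] at hle
    have := hle (AddSubgroup.mem_top (1 : ZMod n))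
    exact one_ne_zero ((map_one φ).symm.trans this)
  have hφp : ∀ x : ZMod n, φ (p • x) = 0 := fun x => by
    rw [map_nsmul, nsmul_eq_mul, ZMod.natCast_self, zero_mul]
  have hφtor : ∀ x : ZMod n, p • x = 0 → φ x = 0 := by
    intro x hx
    obtain ⟨i, rfl⟩ := ZMod.natCast_zmod_surjective x
    rw [nsmul_eq_mul, ← Nat.cast_mul, ZMod.natCast_eq_zero_iff, hn] at hx
    rw [map_natCast, ZMod.natCast_eq_zero_iff]
    have : p * p ∣ p * i := ((sq p).symm ▸ pow_dvd_pow p hm).trans hx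
    exact Nat.dvd_of_mul_dvd_mul_left hp.out.pos this
  -- orbits of the stabiliser
  let orb : ZMod n → Finset (ZMod n) := fun x => {y | ∃ σ ∈ H, σ 0 = 0 ∧ σ x = y}
  have horb : ∀ x, x ∈ orb x := fun x => by simp [orb]; exact ⟨1, one_mem H, rfl, rfl⟩
  have horbT : ∀ x, ∀ σ ∈ H, σ 0 = 0 → ∀ y ∈ orb x, σ y ∈ orb x := by
    intro x σ hσ h0 y hy
    simp only [orb, mem_filter, mem_univ, true_and] at hy ⊢
    obtain ⟨τ, hτ, hτ0, rfl⟩ := hy
    exact ⟨σ * τ, mul_mem hσ hτ, by simp [hτ0, h0], rfl⟩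
  have horb0 : ∀ x, x ≠ 0 → (0 : ZMod n) ∉ orb x := by
    intro x hx h
    simp only [orb, mem_filter, mem_univ, true_and] at h
    obtain ⟨τ, -, hτ0, hτ⟩ := h
    exact hx (τ.injective (hτ.trans hτ0.symm))
  -- periodicity off the torsion
  have hper : ∀ T : Finset (ZMod n), (∀ σ ∈ H, σ 0 = 0 → ∀ x ∈ T, σ x ∈ T) →
      ∀ x ∈ T, p • x ≠ 0 → ∀ h, p • h = 0 → x + h ∈ T := by
    intro T hT x hx hpx h hh
    have hzero : ((#{z ∈ T | p • z = p • x} : ℕ) : ZMod p) = 0 := by
      by_contra hne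
      obtain ⟨b, hb, hb'⟩ := hgen {y | ((#{z ∈ T | p • z = y} : ℕ) : ZMod p) ≠ 0}
        (fun σ hσ h0 y hy => by
          show ((#{z ∈ T | p • z = σ y} : ℕ) : ZMod p) ≠ 0
          rw [fibre_invariant htr hT hσ h0]
          exact hy) (p • x) hne hpx
      obtain ⟨z, hz⟩ : ({z ∈ T | p • z = b} : Finset (ZMod n)).Nonempty := by
        rw [nonempty_iff_ne_empty]
        intro he
        exact hb (show ((#{z ∈ T | p • z = b} : ℕ) : ZMod p) = 0 by rw [he, card_empty, Nat.cast_zero])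
      obtain ⟨-, rfl⟩ := mem_filter.1 hz
      exact hb' (hφp z)
    rw [ZMod.natCast_eq_zero_iff] at hzero
    set F : Finset (ZMod n) := {z ∈ T | p • z = p • x}
    set K : Finset (ZMod n) := {z | p • z = p • x}
    have hKle : #K ≤ p := by
      refine le_trans (le_of_eq ?_) (card_torsion_le hn hm)
      refine card_nbij' (fun z => z - x) (fun z => z + x) ?_ ?_ ?_ ?_
      · intro a ha
        exact mem_filter.2 ⟨mem_univ _, by rw [smul_sub, (mem_filter.1 ha).2, sub_self]⟩
      · intro a ha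
        exact mem_filter.2 ⟨mem_univ _, by rw [nsmul_add, (mem_filter.1 ha).2, zero_add]⟩
      · intro a _; simp
      · intro a _; simp
    have hFK : F ⊆ K := fun z hz => mem_filter.2 ⟨mem_univ _, (mem_filter.1 hz).2⟩
    have hFp : p ≤ #F := Nat.le_of_dvd (card_pos.2 ⟨x, mem_filter.2 ⟨hx, rfl⟩⟩) hzero
    have hFeq : F = K := eq_of_subset_of_card_le hFK (hKle.trans hFp)
    have : x + h ∈ F := by rw [hFeq]; exact mem_filter.2 ⟨mem_univ _, by rw [nsmul_add, hh, add_zero]⟩
    exact (mem_filter.1 this).1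
  -- a nonzero torsion point
  have hnz : ((p ^ (m - 1) : ℕ) : ZMod n) ≠ 0 := by
    rw [Ne, ZMod.natCast_eq_zero_iff, hn, Nat.pow_dvd_pow_iff_le_right hp.out.one_lt]
    omega
  have hnzt : p • ((p ^ (m - 1) : ℕ) : ZMod n) = 0 := by
    rw [nsmul_eq_mul, ← Nat.cast_mul, ← pow_succ', Nat.sub_add_cancel (by omega), ← hn, ZMod.natCast_self]
  have hmeet : ∀ x, x ≠ 0 → ∃ h ∈ orb x, p • h = 0 := by
    intro x hx
    by_contra hno
    push Not at hno
    have hD : ∀ σ ∈ H, σ 0 = 0 → ∀ h ∈ rad (orb x), σ h ∈ rad (orb x) := by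
      intro σ hσ h0 h hh
      have h1 : lam (orb x) h = #(orb x) := by
        rw [lam_eq, filter_true_of_mem hh]
      rw [← lam_invariant htr (horbT x) hσ h0, lam_eq] at h1
      intro y hy
      have h2 := (Finset.filter_eq_self.1 (eq_of_subset_of_card_le (filter_subset _ _) h1.ge)) y hy
      exact h2
    have hmem : ((p ^ (m - 1) : ℕ) : ZMod n) ∈ rad (orb x) := fun y hy =>
      hper _ (horbT x) y hy (hno y hy) _ hnzt
    rcases htriv _ hD with h | h
    · rw [h, AddSubgroup.mem_bot] at hmem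
      exact hnz hmem
    · have h1 : -x ∈ rad (orb x) := h ▸ AddSubgroup.mem_top _
      exact horb0 x hx (by simpa using h1 x (horb x))
  -- an orbit with few torsion points
  have hsum : #{h ∈ orb u | p • h = 0} + #{h ∈ orb v | p • h = 0} ≤ p - 1 := by
    rw [← card_union_of_disjoint]
    · refine le_trans (card_le_card (t := ({h : ZMod n | p • h = 0} : Finset _).erase 0) ?_) ?_
      · intro h hh
        simp only [mem_union, mem_filter] at hh
        rcases hh with ⟨ho, hph⟩ | ⟨ho, hph⟩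
        · exact mem_erase.2 ⟨fun h0 => horb0 u hu (h0 ▸ ho), mem_filter.2 ⟨mem_univ _, hph⟩⟩
        · exact mem_erase.2 ⟨fun h0 => horb0 v hv (h0 ▸ ho), mem_filter.2 ⟨mem_univ _, hph⟩⟩
      · rw [card_erase_of_mem (by simp)]
        exact Nat.sub_le_sub_right (card_torsion_le hn hm) 1
    · rw [Finset.disjoint_left]
      intro h hh hh'
      simp only [orb, mem_filter, mem_univ, true_and] at hh hh'
      obtain ⟨σ, hσ, hσ0, rfl⟩ := hh.1
      obtain ⟨τ, hτ, hτ0, hτe⟩ := hh'.1
      exact huv (τ⁻¹ * σ) (mul_mem (inv_mem hτ) hσ)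
        (by simp only [Equiv.Perm.mul_apply, hσ0]; exact τ.injective (by simp [hτ0])) (by simp [← hτe])
  obtain ⟨x, hx, hsmall⟩ : ∃ x, x ≠ 0 ∧ 2 * #{h ∈ orb x | p • h = 0} ≤ p - 1 := by
    by_cases h : 2 * #{h ∈ orb u | p • h = 0} ≤ p - 1
    · exact ⟨u, hu, h⟩
    · exact ⟨v, hv, by omega⟩
  set T := orb x
  set B : Finset (ZMod n) := {h ∈ T | p • h ≠ 0}
  obtain ⟨h₀, hh₀T, hh₀⟩ := hmeet x hx
  have hperB : ∀ y ∈ B, ∀ h, p • h = 0 → y + h ∈ B := by
    intro y hy h hh
    obtain ⟨hyT, hy0⟩ := mem_filter.1 hy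
    exact mem_filter.2 ⟨hper T (horbT x) y hyT hy0 h hh, by rwa [nsmul_add, hh, add_zero]⟩
  have hBrad : ∀ h ∈ B, h ∈ rad B := by
    intro h hh
    have hlam : #B ≤ lam T h := by
      have heq : lam T h = lam T h₀ := by
        simp only [T, orb, mem_filter, mem_univ, true_and, B] at hh hh₀T
        obtain ⟨⟨σ, hσ, hσ0, rfl⟩, -⟩ := hh
        obtain ⟨τ, hτ, hτ0, rfl⟩ := hh₀T
        rw [lam_invariant htr (horbT x) hσ hσ0, lam_invariant htr (horbT x) hτ hτ0]
      rw [heq, lam_eq]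
      refine card_le_card fun y hy => mem_filter.2 ⟨(mem_filter.1 hy).1, ?_⟩
      exact (mem_filter.1 (hperB y hy h₀ hh₀)).1
    set E : Finset (ZMod n) := {y ∈ B | y + h ∉ B}
    have hE : #E ≤ 2 * #{z ∈ T | p • z = 0} := by
      have h1 : #{y ∈ T | ¬ y + h ∈ T} ≤ #{z ∈ T | p • z = 0} := by
        have ha := card_filter_add_card_filter_not (s := T) (p := fun y => y + h ∈ T)
        have hb := card_filter_add_card_filter_not (s := T) (p := fun z => p • z = 0)
        rw [lam_eq] at hlam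
        have hBdef : #B = #{z ∈ T | ¬ p • z = 0} := rfl
        omega
      have h2 : #{y ∈ B | y + h ∈ T ∧ p • (y + h) = 0} ≤ #{z ∈ T | p • z = 0} := by
        refine card_le_card_of_injOn (fun y => y + h) ?_ (add_left_injective h).injOn
        intro y hy
        simp only [Finset.mem_coe, mem_filter] at hy ⊢
        exact ⟨hy.2.1, hy.2.2⟩
      have h3 : E ⊆ ({y ∈ T | ¬ y + h ∈ T} : Finset _) ∪ {y ∈ B | y + h ∈ T ∧ p • (y + h) = 0} := by
        intro y hy
        obtain ⟨hyB, hyh⟩ := mem_filter.1 hy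
        by_cases hyT : y + h ∈ T
        · refine mem_union_right _ (mem_filter.2 ⟨hyB, hyT, by_contra fun hne => hyh (mem_filter.2 ⟨hyT, hne⟩)⟩)
        · exact mem_union_left _ (mem_filter.2 ⟨(mem_filter.1 hyB).1, hyT⟩)
      exact ((card_le_card h3).trans (card_union_le _ _)).trans (by omega)
    intro y hy
    by_contra hyh
    have hbig : p ≤ #E := by
      have hsub : (Finset.range p).image (fun k => y + k • ((p ^ (m - 1) : ℕ) : ZMod n)) ⊆ E := by
        intro z hz
        obtain ⟨k, -, rfl⟩ := mem_image.1 hz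
        have ht : p • (k • ((p ^ (m - 1) : ℕ) : ZMod n)) = 0 := by rw [nsmul_left_comm, hnzt, nsmul_zero]
        refine mem_filter.2 ⟨hperB y hy _ ht, fun hin => hyh ?_⟩
        have := hperB _ hin (-(k • ((p ^ (m - 1) : ℕ) : ZMod n))) (by rw [smul_neg, ht, neg_zero])
        rwa [add_right_comm, add_neg_cancel_right] at this
      refine le_trans (le_of_eq ?_) (card_le_card hsub)
      rw [card_image_of_injOn, card_range]
      intro a ha b hb hab
      simp only [Finset.coe_range, Set.mem_Iio] at ha hb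
      have hord : addOrderOf ((p ^ (m - 1) : ℕ) : ZMod n) = p :=
        addOrderOf_eq_prime hnzt hnz
      exact nsmul_injOn_Iio_addOrderOf (by rw [hord]; exact ha) (by rw [hord]; exact hb) (add_left_cancel hab)
    have := hp.out.two_le
    omega
  obtain ⟨b, hb, hb'⟩ := hgen (↑T : Set (ZMod n)) (horbT x) x (horb x) hx
  have hbB : b ∈ B := mem_filter.2 ⟨hb, fun h => hb' (hφtor b h)⟩
  have hunit : IsUnit b := by
    obtain ⟨i, rfl⟩ := ZMod.natCast_zmod_surjective b
    rw [ZMod.isUnit_iff_coprime, hn]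
    rw [map_natCast, Ne, ZMod.natCast_eq_zero_iff] at hb'
    exact Nat.Coprime.pow_right m ((hp.out.coprime_iff_not_dvd).2 hb').symm
  obtain ⟨c, hc⟩ := hunit.exists_right_inv
  have hmem : -b ∈ rad B := by
    exact neg_mem (hBrad b hbB)
  have h0B := hmem b hbB
  rw [add_neg_cancel] at h0B
  exact (mem_filter.1 h0B).2 (nsmul_zero p)

end PrimePow

end Cfsg.Agent.BGroups.CyclicB
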