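import Cfsg.Agent.Lib.BGroups.Step
import Cfsg.Agent.S3912

/-!
# Quaternion Sylow subgroups of order eight in the conjugacy problem
-/

set_option autoImplicit false

namespace Cfsg.Agent.BGroups

open Subgroup Pointwise

universe u

/-- The conjugacy condition on cyclic subgroups of order four. -/
def Four (X : Type u) [Group X] : Prop :=
  ∀ x y : X, orderOf x = 4 → orderOf y = 4 → ∃ g : X, y ∈ zpowers (g * x * g⁻¹)

/-- The conjugacy hypothesis on abelian subgroups. -/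
def HB (X : Type u) [Group X] : Prop :=
  ∀ A B : Subgroup X, IsMulCommutative ↥A → IsMulCommutative ↥B → Nat.card ↥A = Nat.card ↥B →
    ∃ g : X, B = A.map (MulAut.conj g).toMonoidHom

variable {X : Type u} [Group X] [Finite X]

omit [Finite X] in
theorem mem_zpowers_conj (hB : HB X) {x y : X} (h : orderOf x = orderOf y) :
    ∃ g : X, y ∈ zpowers (g * x * g⁻¹) := by
  obtain ⟨g, hg⟩ := hB (zpowers x) (zpowers y) inferInstance inferInstance
    (by rw [Nat.card_zpowers, Nat.card_zpowers, h])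
  rw [MonoidHom.map_zpowers] at hg
  exact ⟨g, hg ▸ mem_zpowers y⟩

section Eight

variable {S : Subgroup X} (e : ↥S ≃* QuaternionGroup 2)

include e

omit [Finite X] in
theorem orderOf_four {x : X} (hx : x ∈ S) (hx2 : x ^ 2 ≠ 1) : orderOf x = 4 := by
  rw [← Subgroup.orderOf_mk x hx, show (4 : ℕ) = 2 ^ (1 + 1) by rfl]
  refine orderOf_eq_prime_pow (hp := ⟨Nat.prime_two⟩) ?_ (e.injective ?_)
  · intro h
    exact hx2 (by simpa using congrArg Subtype.val h)
  · rw [map_pow, map_one]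
    exact S3912.q8_facts.1 _

theorem card_eight : Nat.card S = 8 := by
  rw [Nat.card_congr e.toEquiv, Nat.card_eq_fintype_card, QuaternionGroup.card]

omit [Finite X] in
theorem eq_of_sq_eq_one {x y : X} (hx : x ∈ S) (hy : y ∈ S) (hx2 : x ^ 2 = 1) (hy2 : y ^ 2 = 1)
    (hx1 : x ≠ 1) (hy1 : y ≠ 1) : x = y := by
  have hne : ∀ z (hz : z ∈ S), z ≠ 1 → e ⟨z, hz⟩ ≠ 1 := fun z hz h h' =>
    h (congrArg Subtype.val ((EmbeddingLike.map_eq_one_iff (f := e)).mp h'))
  have hsq : ∀ z (hz : z ∈ S), z ^ 2 = 1 → e ⟨z, hz⟩ ^ 2 = 1 := fun z hz h => by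
    rw [← map_pow, EmbeddingLike.map_eq_one_iff]
    exact Subtype.ext h
  exact congrArg Subtype.val (e.injective
    (S3912.q8_facts.2.2 _ _ (hsq x hx hx2) (hne x hx hx1) (hsq y hy hy2) (hne y hy hy1)))

/-- A subgroup of a quaternion group of order eight is the whole, or cyclic of order four, or at most
the centre. -/
theorem cases_le {V : Subgroup X} (hV : V ≤ S) :
    V = S ∨ (∃ x ∈ S, orderOf x = 4 ∧ V = zpowers x) ∨ V = ⊥ ∨
      ∃ z ∈ S, z ≠ 1 ∧ z ^ 2 = 1 ∧ V = zpowers z := by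
  by_cases hVS : V = S
  · exact Or.inl hVS
  refine Or.inr ?_
  by_cases h4 : ∃ x ∈ V, x ^ 2 ≠ 1
  · obtain ⟨x, hx, hx2⟩ := h4
    have hxo := orderOf_four e (hV hx) hx2
    refine Or.inl ⟨x, hV hx, hxo, (eq_of_le_of_card_ge (zpowers_le.2 hx) ?_).symm⟩
    rw [Nat.card_zpowers, hxo]
    have h8 := card_dvd_of_le hV
    rw [card_eight e] at h8
    have hne : Nat.card V ≠ 8 := fun h => hVS (eq_of_le_of_card_ge hV (by rw [h, card_eight e]))
    have := Nat.le_of_dvd (by norm_num) h8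
    obtain ⟨i, hi, hV'⟩ := (Nat.dvd_prime_pow Nat.prime_two).1 (show Nat.card V ∣ 2 ^ 3 from h8)
    have hi' : i ≤ 2 := by
      by_contra hc
      exact hne (by rw [hV', show i = 3 by omega]; rfl)
    rw [hV']
    exact (Nat.pow_le_pow_right two_pos hi').trans le_rfl
  push Not at h4
  refine Or.inr ?_
  by_cases hbot : V = ⊥
  · exact Or.inl hbot
  obtain ⟨⟨z, hz⟩, hz1⟩ := Subgroup.ne_bot_iff_exists_ne_one.1 hbot
  have hz1' : z ≠ 1 := fun h => hz1 (Subtype.ext h)
  refine Or.inr ⟨z, hV hz, hz1', h4 z hz, le_antisymm (fun w hw => ?_) (zpowers_le.2 hz)⟩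
  by_cases hw1 : w = 1
  · exact hw1 ▸ one_mem _
  · rw [eq_of_sq_eq_one e (hV hw) (hV hz) (h4 w hw) (h4 z hz) hw1 hz1']
    exact mem_zpowers z

theorem isCyclic_of_lt {V : Subgroup X} (hV : V ≤ S) (hne : V ≠ S) : IsCyclic ↥V := by
  rcases cases_le e hV with h | ⟨x, -, -, h⟩ | h | ⟨z, -, -, -, h⟩
  · exact absurd h hne
  all_goals rw [h]; infer_instance

omit [Finite X] in
theorem exists_ijk : ∃ i ∈ S, ∃ j ∈ S, i ^ 2 ≠ 1 ∧ j ^ 2 ≠ 1 ∧ (i * j) ^ 2 ≠ 1 ∧
    i ^ 2 = i * j * i⁻¹ * j⁻¹ ∧ (∀ s ∈ S, s ^ 2 = 1 ∨ s ^ 2 = i ^ 2) ∧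
      ∀ K : Subgroup X, i ∈ K → j ∈ K → S ≤ K := by
  have hf : ∀ w : QuaternionGroup 2, w ^ 2 = 1 ∨ w ^ 2 = (QuaternionGroup.a 1) ^ 2 := by decide
  have hgen : ∀ w : QuaternionGroup 2, ∃ m : Fin 4, ∃ n : Fin 2,
      w = QuaternionGroup.a 1 ^ (m : ℕ) * QuaternionGroup.xa 0 ^ (n : ℕ) := by decide
  set i := e.symm (QuaternionGroup.a 1)
  set j := e.symm (QuaternionGroup.xa 0)
  have hne : ∀ w : QuaternionGroup 2, w ^ 2 ≠ 1 → ((e.symm w : ↥S) : X) ^ 2 ≠ 1 := fun w hw h => hw (by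
    have h' : (e.symm w) ^ 2 = 1 := Subtype.ext h
    rw [← map_pow, EmbeddingLike.map_eq_one_iff] at h'
    exact h')
  refine ⟨i, i.2, j, j.2, hne _ (by decide), hne _ (by decide), ?_, ?_, fun s hs => ?_, fun K hi hj s hs => ?_⟩
  · have := hne (QuaternionGroup.a 1 * QuaternionGroup.xa 0) (by decide)
    rw [map_mul] at this
    exact this
  · have h1 : i ^ 2 = i * j * i⁻¹ * j⁻¹ := by
      simp only [i, j, ← map_pow, ← map_inv, ← map_mul]
      congr 1
    exact congrArg Subtype.val h1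
  · rcases hf (e ⟨s, hs⟩) with h | h
    · rw [← map_pow, EmbeddingLike.map_eq_one_iff] at h
      exact Or.inl (congrArg Subtype.val h)
    · have h' : (⟨s, hs⟩ : ↥S) ^ 2 = i ^ 2 := e.injective (by rw [map_pow, h, map_pow, MulEquiv.apply_symm_apply])
      exact Or.inr (congrArg Subtype.val h')
  · obtain ⟨m, n, h⟩ := hgen (e ⟨s, hs⟩)
    have h' : (⟨s, hs⟩ : ↥S) = i ^ (m : ℕ) * j ^ (n : ℕ) := e.injective (by
      rw [h, map_mul, map_pow, map_pow, MulEquiv.apply_symm_apply, MulEquiv.apply_symm_apply])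
    have h'' : s = (i : X) ^ (m : ℕ) * (j : X) ^ (n : ℕ) := congrArg Subtype.val h'
    exact h'' ▸ mul_mem (pow_mem hi _) (pow_mem hj _)

end Eight

/-- The Sylow types. -/
theorem sylow_types [Group.IsSolvable X] (hB : HB X) (q : ℕ) [hq : Fact q.Prime] (P : Sylow q X) :
    IsCyclic ↥(P : Subgroup X) ∨ (∀ x ∈ (P : Subgroup X), x ^ q = 1) ∨
      (q = 2 ∧ Nonempty (↥(P : Subgroup X) ≃* QuaternionGroup 2)) := by
  by_cases hq2 : q = 2
  · subst hq2
    rcases (S3908.result hB).1 P with h | h | ⟨k, ⟨e⟩⟩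
    · exact Or.inl h
    · exact Or.inr (Or.inl h.2)
    · have hk := S3912.quat_small P e fun x y hx hy => mem_zpowers_conj hB (hx.trans hy.symm)
      rcases Nat.le_one_iff_eq_zero_or_eq_one.mp hk with rfl | rfl
      · refine Or.inl ?_
        refine isCyclic_of_orderOf_eq_card (e.symm (QuaternionGroup.xa 0)) ?_
        rw [MulEquiv.orderOf_eq, QuaternionGroup.orderOf_xa, Nat.card_congr e.toEquiv,
          Nat.card_eq_fintype_card, QuaternionGroup.card]
        rfl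
      · exact Or.inr (Or.inr ⟨rfl, ⟨e⟩⟩)
  · rcases (S3908.result hB).2 q hq2 P with h | h
    · exact Or.inl h
    · exact Or.inr (Or.inl h)

/-- A quotient by a normal Sylow `2`-subgroup is a Z-group if the other Sylow subgroups are cyclic. -/
theorem isZGroup_quotient (P : Sylow 2 X) [(P : Subgroup X).Normal]
    (hodd : ∀ (q : ℕ) [Fact q.Prime], q ≠ 2 → ∀ R : Sylow q X, IsCyclic ↥(R : Subgroup X)) :
    IsZGroup (X ⧸ (P : Subgroup X)) := by
  refine ⟨fun q hq R => ?_⟩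
  have := Fact.mk hq
  obtain ⟨R', rfl⟩ := Sylow.mapSurjective_surjective (QuotientGroup.mk'_surjective (P : Subgroup X)) q R
  by_cases hq2 : q = 2
  · subst hq2
    have : (R' : Subgroup X) ≤ (P : Subgroup X) := by
      have := Sylow.unique_of_normal P inferInstance
      rw [Subsingleton.elim R' P]
    show IsCyclic ↥((R' : Subgroup X).map (QuotientGroup.mk' (P : Subgroup X)))
    rw [(Subgroup.map_eq_bot_iff _).2 (this.trans (QuotientGroup.ker_mk' _).ge)]
    infer_instance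
  · have := hodd q hq2 R'
    show IsCyclic ↥((R' : Subgroup X).map (QuotientGroup.mk' (P : Subgroup X)))
    exact isCyclic_of_surjective _ (MonoidHom.subgroupMap_surjective _ _)

/-- A normal quaternion Sylow subgroup and cyclic Sylow subgroups otherwise. -/
theorem same_of_q8 [Group.IsSolvable X] (P : Sylow 2 X) [(P : Subgroup X).Normal]
    (e : ↥(P : Subgroup X) ≃* QuaternionGroup 2)
    (hodd : ∀ (q : ℕ) [Fact q.Prime], q ≠ 2 → ∀ R : Sylow q X, IsCyclic ↥(R : Subgroup X))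
    (h4 : Four X) : Same X := by
  intro A B h
  have hcop : (Nat.card ↥(P : Subgroup X)).Coprime (P : Subgroup X).index := P.card_coprime_index
  refine hall_step hcop h ?_ ?_
  · set S := (P : Subgroup X)
    have hc : Nat.card (A ⊓ S : Subgroup X) = Nat.card (B ⊓ S : Subgroup X) := by
      rw [card_inf_hall hcop, card_inf_hall hcop, h]
    have hz2 : ∀ z : X, z ≠ 1 → z ^ 2 = 1 → Nat.card (zpowers z) = 2 := fun z hz hz2 => by
      rw [Nat.card_zpowers]
      exact orderOf_eq_prime (hp := ⟨Nat.prime_two⟩) hz2 hz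
    have h8 := card_eight e
    rcases cases_le e (inf_le_right : A ⊓ S ≤ S) with ha | ⟨x, hx, hxo, ha⟩ | ha | ⟨z, hz, hz1, hzz, ha⟩
    · refine ⟨1, ?_⟩
      rw [map_one, one_smul, ha]
      exact (eq_of_le_of_card_ge inf_le_right (by rw [← hc, ha])).symm
    · rcases cases_le e (inf_le_right : B ⊓ S ≤ S) with hb | ⟨y, hy, hyo, hb⟩ | hb | ⟨w, hw, hw1, hww, hb⟩
      · rw [ha, hb, Nat.card_zpowers, hxo, h8] at hc; omega
      · obtain ⟨g, hg⟩ := h4 x y hxo hyo
        refine ⟨g, ?_⟩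
        rw [ha, hb, smul_eq_map, MonoidHom.map_zpowers]
        refine (eq_of_le_of_card_ge (zpowers_le.2 hg) ?_).symm
        rw [Nat.card_zpowers, Nat.card_zpowers, hyo]
        show orderOf ((MulAut.conj g) x) ≤ 4
        rw [MulEquiv.orderOf_eq, hxo]
      · rw [ha, hb, Nat.card_zpowers, hxo, card_bot] at hc; omega
      · rw [ha, hb, hz2 w hw1 hww, Nat.card_zpowers, hxo] at hc; omega
    · refine ⟨1, ?_⟩
      rw [map_one, one_smul, ha]
      rw [ha, card_bot] at hc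
      exact (card_eq_one.1 hc.symm).symm
    · rcases cases_le e (inf_le_right : B ⊓ S ≤ S) with hb | ⟨y, hy, hyo, hb⟩ | hb | ⟨w, hw, hw1, hww, hb⟩
      · rw [ha, hb, hz2 z hz1 hzz, h8] at hc; omega
      · rw [ha, hb, hz2 z hz1 hzz, Nat.card_zpowers, hyo] at hc; omega
      · rw [ha, hb, hz2 z hz1 hzz, card_bot] at hc; omega
      · refine ⟨1, ?_⟩
        rw [map_one, one_smul, ha, hb, eq_of_sq_eq_one e hz hw hzz hww hz1 hw1]
  · have := isZGroup_quotient P hodd
    exact same_of_isZGroup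

end Cfsg.Agent.BGroups
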