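import Cfsg.Agent.Lib.BGroups.Structure

/-!
# Subgroups of equal order in solvable groups with conjugate abelian subgroups of equal order
-/

set_option autoImplicit false

namespace Cfsg.Agent.BGroups

open Subgroup Pointwise Cfsg

universe u

section Line

variable {N : Type*} [Group N] [Finite N] {p : ℕ} [hp : Fact p.Prime]

/-- An element lies in every subgroup of order `p ^ a` containing `v` only if it is a power of `v`. -/
theorem mem_zpowers_of_forall (hc : ∀ a b : N, a * b = b * a) (hexp : ∀ a : N, a ^ p = 1) {n a : ℕ}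
    (hN : Nat.card N = p ^ n) (ha0 : 1 ≤ a) (han : a < n) {v w : N}
    (h : ∀ W : Subgroup N, Nat.card W = p ^ a → v ∈ W → w ∈ W) : w ∈ zpowers v := by
  by_contra hw
  obtain ⟨S, hS⟩ := (Set.toFinite {S : Subgroup N | v ∈ S ∧ w ∉ S}).exists_maximal
    ⟨zpowers v, mem_zpowers v, hw⟩
  obtain ⟨hvS, hwS⟩ := hS.1
  have hnorm : ∀ A B : Subgroup N, A ≤ normalizer (B : Set N) := fun A B x _ => mem_normalizer_iff.2 fun y => by
    rw [hc x y, mul_inv_cancel_right]
  have hcov : ∀ u : N, u ∈ S ⊔ zpowers w := by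
    intro u
    by_cases hu : u ∈ S
    · exact mem_sup_left hu
    have hwu : w ∈ S ⊔ zpowers u := by
      by_contra hh
      exact hu (hS.2 (y := S ⊔ zpowers u) ⟨mem_sup_left hvS, hh⟩ le_sup_left (mem_sup_right (mem_zpowers u)))
    obtain ⟨s, hs, x, ⟨k, rfl⟩, hsw⟩ := (Coprime.mem_sup_iff_of_le_normalizer (hnorm S (zpowers u))).1 hwu
    beta_reduce at hsw
    have hk : ¬ (p : ℤ) ∣ k := by
      intro hd
      obtain ⟨c, rfl⟩ := hd
      rw [zpow_mul, zpow_natCast, hexp u, one_zpow, mul_one] at hsw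
      exact hwS (hsw ▸ hs)
    obtain ⟨α, β, hab⟩ := (Nat.prime_iff_prime_int.1 hp.out).coprime_iff_not_dvd.2 hk
    have hu' : u = (u ^ k) ^ β := by
      conv_lhs => rw [← zpow_one u, ← hab, zpow_add, mul_comm α, zpow_mul, zpow_natCast, hexp u, one_zpow, one_mul,
        mul_comm β, zpow_mul]
    rw [hu']
    refine zpow_mem ?_ β
    have huk : u ^ k = s⁻¹ * w := by rw [← hsw, inv_mul_cancel_left]
    rw [huk]
    exact mul_mem (mem_sup_left (inv_mem hs)) (mem_sup_right (mem_zpowers w))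
  have hsup : S ⊔ zpowers w = ⊤ := (eq_top_iff' _).2 hcov
  have hP : IsPGroup p N := IsPGroup.of_card hN
  obtain ⟨m, hm⟩ := (hP.to_subgroup S).exists_card_eq
  have hdis : S ⊓ zpowers w = ⊥ := by
    rw [eq_bot_iff]
    rintro x hx
    obtain ⟨hxS, hxw⟩ := mem_inf.1 hx
    rw [mem_bot]
    by_contra hx1
    have heq : zpowers x = zpowers w := eq_of_le_of_card_ge (zpowers_le.2 hxw) (by
      rw [Nat.card_zpowers, Nat.card_zpowers, orderOf_eq_prime (hexp x) hx1]
      exact Nat.le_of_dvd hp.out.pos (orderOf_dvd_of_pow_eq_one (hexp w)))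
    exact hwS ((zpowers_le.2 hxS) (heq ▸ mem_zpowers w))
  have hcard := Coprime.card_sup_of_le_normalizer (hnorm S (zpowers w)) hdis
  rw [hsup, card_top, hN, hm, Nat.card_zpowers,
    orderOf_eq_prime (hexp w) (fun h1 => hwS (h1 ▸ one_mem S)), ← pow_succ] at hcard
  have hnm := Nat.pow_right_injective hp.out.two_le hcard
  obtain ⟨l, hl, hlv⟩ := (Nat.dvd_prime_pow hp.out).1
    (show orderOf v ∣ p ^ 1 by rw [pow_one]; exact orderOf_dvd_of_pow_eq_one (hexp v))
  obtain ⟨K, hK, hle⟩ := Sylow.exists_subgroup_card_pow_prime_le (G := ↥S) p (n := l) (m := a)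
    (by rw [hm]; exact pow_dvd_pow p (by omega)) ((zpowers v).subgroupOf S)
    (by rw [Coprime.card_subgroupOf (zpowers_le.2 hvS), Nat.card_zpowers, hlv]) (by omega)
  refine hwS (map_subtype_le K (h (K.map S.subtype) ?_ ⟨⟨v, hvS⟩, hle (mem_zpowers v), rfl⟩))
  rw [card_map_of_injective S.subtype_injective, hK]

end Line

/-- The main theorem, by induction on the order. -/
theorem same_of_hB {G : Type u} [Group G] [Finite G] [Group.IsSolvable G] (hB : HB G) : Same G := by
  induction hn : Nat.card G using Nat.strong_induction_on generalizing G with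
  | _ n ih =>
  subst hn
  by_cases hno : ∀ N : Subgroup G, N.Normal → ¬ (Nat.card N).Prime
  swap
  · push Not at hno
    obtain ⟨N, hN, hp⟩ := hno
    have := Fact.mk hp
    refine same_of_normal_prime (p := Nat.card N) N rfl (fun K hK => ?_) (ih _ ?_ ?_ rfl)
    · have := isCyclic_of_prime_card (p := Nat.card N) hK
      have := isCyclic_of_prime_card (p := Nat.card N) (α := N) rfl
      obtain ⟨g, hg⟩ := hB N K IsCyclic.isMulCommutative IsCyclic.isMulCommutative hK.symm
      rw [hg, ← smul_eq_map, smul_eq_self_of_normal N g]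
    · rw [← index_eq_card, ← card_mul_index N]
      exact lt_mul_of_one_lt_left (Nat.pos_of_ne_zero FiniteIndex.index_ne_zero) hp.one_lt
    · exact S3912.result hB inferInstance N
  set T : Subgroup G := fittingSubgroup G with hTdef
  have hTn : T.Normal := sSup_normal _ fun _ h => h.1
  have hcoreN : ∀ p : ℕ, (pCore p G).Normal := fun p => sSup_normal _ fun _ h => h.1
  have hcoreT : ∀ p : ℕ, p.Prime → pCore p G ≤ T := fun p hp => Components.pCore_le_fittingSubgroup hp
  have hTdvd : ∀ p : ℕ, p.Prime → p ∣ Nat.card T → pCore p G ≠ ⊥ := by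
    intro p hp hd hbot
    have := Fact.mk hp
    obtain ⟨x, hx⟩ := exists_prime_orderOf_dvd_card' p hd
    have hxo : orderOf (x : G) = p := by rw [Subgroup.orderOf_coe, hx]
    have hle := le_pCore_of_le_fitting (IsPGroup.of_card (p := p) (n := 1) (G := zpowers (x : G))
      (by rw [Nat.card_zpowers, hxo, pow_one])) (zpowers_le.2 x.2)
    rw [hbot, le_bot_iff, zpowers_eq_bot] at hle
    rw [hle, orderOf_one] at hxo
    exact hp.ne_one hxo.symm
  have hcop : (Nat.card T).Coprime T.index := by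
    refine Nat.coprime_of_dvd fun p hp h1 h2 => ?_
    have := Fact.mk hp
    obtain ⟨P⟩ : Nonempty (Sylow p G) := inferInstance
    refine P.not_dvd_index (h2.trans (index_dvd_of_le ?_))
    rw [(pCore_eq_sylow hB hno (hTdvd p hp h1)).1 P]
    exact hcoreT p hp
  have hcoreC : ∀ p : ℕ, p.Prime → ∀ v ∈ pCore p G, ∀ t ∈ T, t * v = v * t := by
    intro p hp v hv t ht
    have := Fact.mk hp
    refine (mem_centralizer_singleton_iff.1 (le_of_forall_pCore (K := centralizer {v}) (fun r hr w hw => ?_) ht))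
    rw [mem_centralizer_singleton_iff]
    by_cases hrp : r = p
    · subst hrp
      by_cases hb : pCore r G = ⊥
      · rw [hb, mem_bot] at hv; rw [hv, one_mul, mul_one]
      · exact congrArg Subtype.val ((pCore_eq_sylow hB hno hb).2.2.is_comm.comm (⟨w, hw⟩ : ↥(pCore r G)) ⟨v, hv⟩)
    · have := Fact.mk hr
      exact (commute_of_normal_of_disjoint _ _ (hcoreN r) (hcoreN p)
        (IsPGroup.disjoint_of_ne _ _ hrp _ _ (PCore.isPGroup_pCore) (PCore.isPGroup_pCore)) w v hw hv).eq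
  have hTc : IsMulCommutative ↥T := ⟨⟨fun a b => Subtype.ext (by
    have hle : T ≤ centralizer {(a : G)} := le_of_forall_pCore fun p hp v hv =>
      mem_centralizer_singleton_iff.2 (hcoreC p hp v hv a a.2).symm
    exact (mem_centralizer_singleton_iff.1 (hle b.2)).symm)⟩⟩
  set π := QuotientGroup.mk' T with hπ
  have hBL : HB (G ⧸ T) := S3912.result hB inferInstance T
  -- the action on a core
  let φ : ∀ p : {p : ℕ // p.Prime}, (G ⧸ T) →* MulAut ↥(pCore (p : ℕ) G) := fun p =>
    haveI := hcoreN p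
    QuotientGroup.lift T MulAut.conjNormal fun t ht =>
      mem_ker_conjNormal.2 fun v hv => hcoreC p p.2 v hv t ht
  have hφ : ∀ (p : {p : ℕ // p.Prime}) (g : G) (v : ↥(pCore (p : ℕ) G)),
      ((φ p (π g) v : ↥(pCore (p : ℕ) G)) : G) = g * v * g⁻¹ := fun p g v => by
    haveI := hcoreN p
    exact MulAut.conjNormal_apply g v
  have hφker : ∀ (p : {p : ℕ // p.Prime}) (g : G), φ p (π g) = 1 → ∀ v ∈ pCore (p : ℕ) G, g * v = v * g := by
    intro p g hg v hv
    have := hφ p g ⟨v, hv⟩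
    rw [hg, MulAut.one_apply] at this
    exact (mul_inv_eq_iff_eq_mul.1 this.symm)
  have himage : ∀ (p : {p : ℕ // p.Prime}), pCore (p : ℕ) G ≠ ⊥ → ∀ (q : ℕ), q.Prime → q ≠ (p : ℕ) →
      ∀ M : Subgroup (G ⧸ T), M.Normal → (∀ a ∈ M, ∀ b ∈ M, φ p a * φ p b = φ p b * φ p a) →
      (∀ a ∈ M, φ p a ^ q = 1) → IsCyclic ↥(M.map (φ p)) := by
    intro p hb q hq hqp M hM hcomm hMq
    have := Fact.mk p.2
    obtain ⟨-, hexp, hNc⟩ := pCore_eq_sylow hB hno hb
    have := hM
    letI : CommGroup ↥(pCore (p : ℕ) G) :=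
      { (inferInstance : Group ↥(pCore (p : ℕ) G)) with mul_comm := hNc.is_comm.comm }
    have : Nontrivial ↥(pCore (p : ℕ) G) := (nontrivial_iff_ne_bot _).2 hb
    refine isCyclic_image hq hqp (fun v => Subtype.ext (hexp v v.2)) (φ p) (fun v w hv hw => ?_) M hcomm hMq
    obtain ⟨g, hg⟩ := mem_zpowers_conj hB (x := (w : G)) (y := (v : G))
      ((orderOf_eq_prime (hexp w w.2) (fun h => hw (Subtype.ext h))).trans
        (orderOf_eq_prime (hexp v v.2) (fun h => hv (Subtype.ext h))).symm)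
    refine ⟨π g⁻¹, ?_⟩
    obtain ⟨k, hk⟩ := hg
    refine ⟨k, Subtype.ext ?_⟩
    beta_reduce at hk ⊢
    rw [hφ, ← hk, conj_zpow]
    push_cast
    group
  -- no noncyclic elementary abelian normal subgroup in the quotient
  have hFA : ∀ (q : ℕ) [Fact q.Prime] (M : Subgroup (G ⧸ T)), M.Normal → IsMulCommutative ↥M →
      (∀ x ∈ M, x ^ q = 1) → IsCyclic ↥M := by
    intro q hq M hM hMc hMq
    by_contra hnc
    refine hnc ?_
    have hbot : M = ⊥ := by
      rw [eq_bot_iff]
      intro m hm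
      obtain ⟨g, rfl⟩ := QuotientGroup.mk'_surjective T m
      rw [mem_bot]
      refine (QuotientGroup.eq_one_iff g).2 (mem_fitting fun p hp v hv => ?_)
      by_cases hb : pCore p G = ⊥
      · rw [hb, mem_bot] at hv; rw [hv, one_mul, mul_one]
      by_cases hg1 : π g = 1
      · exact hcoreC p hp v hv g ((QuotientGroup.eq_one_iff g).1 hg1)
      have := Fact.mk hp
      have hqp : q ≠ p := by
        rintro rfl
        have h1 : q ∣ Nat.card T := by
          obtain ⟨k, hk⟩ := (PCore.isPGroup_pCore (p := q) (G := G)).exists_card_eq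
          have hk0 : k ≠ 0 := fun h0 => hb (card_eq_one.1 (by rw [hk, h0, pow_zero]))
          exact (hk ▸ dvd_pow_self q hk0 : q ∣ Nat.card ↥(pCore q G)).trans (card_dvd_of_le (hcoreT q hp))
        have h2 : q ∣ T.index := by
          rw [index_eq_card, ← orderOf_eq_prime (hMq _ hm) hg1]
          exact orderOf_dvd_natCard _
        exact hq.out.ne_one (Nat.dvd_one.1 (hcop.gcd_eq_one ▸ Nat.dvd_gcd h1 h2))
      have hcy := himage ⟨p, hp⟩ hb q hq.out hqp M hM
        (fun a ha b hb => by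
          rw [← map_mul, ← map_mul]
          exact congrArg _ (congrArg Subtype.val (hMc.is_comm.comm (⟨a, ha⟩ : ↥M) ⟨b, hb⟩)))
        (fun a ha => by rw [← map_pow, hMq a ha, map_one])
      refine hφker ⟨p, hp⟩ g ?_ v hv
      by_contra hne
      -- injective on `M`, otherwise everything is killed
      have hinj : Function.Injective ((φ ⟨p, hp⟩).subgroupMap M) := by
        rw [injective_iff_map_eq_one]
        intro a ha
        by_contra ha1
        have ha' : φ ⟨p, hp⟩ (a : G ⧸ T) = 1 := congrArg Subtype.val ha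
        have hle := le_of_exp hBL (K := (φ ⟨p, hp⟩).ker) hMq (a := (a : G ⧸ T)) (MonoidHom.mem_ker.2 ha')
          (orderOf_eq_prime (hMq a a.2) fun h => ha1 (Subtype.ext h))
        exact hne (MonoidHom.mem_ker.1 (hle hm))
      exact hnc (isCyclic_of_injective _ hinj)
    rw [hbot]
    infer_instance
  have hL := sylow_of_no_elementary hBL hFA
  -- the final step
  intro A B hcard
  obtain ⟨g, hg⟩ := hB (A ⊓ T) (B ⊓ T)
    ⟨⟨fun a b => Subtype.ext (congrArg Subtype.val (hTc.is_comm.comm (⟨a, a.2.2⟩ : ↥T) ⟨b, b.2.2⟩) :)⟩⟩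
    ⟨⟨fun a b => Subtype.ext (congrArg Subtype.val (hTc.is_comm.comm (⟨a, a.2.2⟩ : ↥T) ⟨b, b.2.2⟩) :)⟩⟩
    (by rw [card_inf_hall hcop, card_inf_hall hcop, hcard])
  refine hall_step hcop hcard ⟨g, by rw [smul_eq_map, hg]⟩ ?_
  set V := B ⊓ T
  set Y := normalizer (V : Set G)
  have hTY : T ≤ Y := fun t ht => mem_normalizer_iff.2 fun v => by
    have hc : ∀ a ∈ T, t * a = a * t := fun a ha =>
      congrArg Subtype.val (hTc.is_comm.comm (⟨t, ht⟩ : ↥T) ⟨a, ha⟩)
    show v ∈ V ↔ t * v * t⁻¹ ∈ V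
    constructor
    · intro hv
      rw [hc v (mem_inf.1 hv).2, mul_inv_cancel_right]
      exact hv
    · intro hv
      have h1 := hc _ (mem_inf.1 hv).2
      have h2 : t * v * t⁻¹ = v := by
        have : t * (t * v * t⁻¹) = t * v := by rw [h1, inv_mul_cancel_right]
        exact mul_left_cancel this
      rwa [h2] at hv
  have hcy : ∀ (q : ℕ) [Fact q.Prime] (R : Sylow q ↥(Y.map π)),
      IsCyclic ↥(R : Subgroup ↥(Y.map π)) ∨ (q = 2 ∧ ∃ Q : Sylow 2 (G ⧸ T),
        (Q : Subgroup (G ⧸ T)).Normal ∧ Nonempty (↥(Q : Subgroup (G ⧸ T)) ≃* QuaternionGroup 2) ∧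
        (Q : Subgroup (G ⧸ T)) ≤ Y.map π) := by
    intro q hq R
    obtain ⟨Q, hQ⟩ := (R.2.map (Y.map π).subtype).exists_le_sylow
    have heq := (equivMapOfInjective (R : Subgroup ↥(Y.map π)) _ (Y.map π).subtype_injective)
    rcases hL q Q with h | ⟨rfl, hQn, ⟨e⟩⟩
    · have := isCyclic_of_le hQ
      exact Or.inl (isCyclic_of_injective heq.toMonoidHom heq.injective)
    · by_cases hh : (R : Subgroup ↥(Y.map π)).map (Y.map π).subtype = Q
      · exact Or.inr ⟨rfl, Q, hQn, ⟨e⟩, hh ▸ map_subtype_le _⟩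
      · have := isCyclic_of_lt e hQ hh
        exact Or.inl (isCyclic_of_injective heq.toMonoidHom heq.injective)
  by_cases hz : ∀ (q : ℕ) [Fact q.Prime] (R : Sylow q ↥(Y.map π)), IsCyclic ↥(R : Subgroup ↥(Y.map π))
  · have : IsZGroup ↥(Y.map π) := ⟨fun q hq R => by
      have := Fact.mk hq
      exact hz q R⟩
    exact same_of_isZGroup
  push Not at hz
  obtain ⟨q, hq, R, hR⟩ := hz
  obtain ⟨rfl, Q, hQn, ⟨e⟩, hQY⟩ := (hcy q R).resolve_left hR
  have h2 : Fact (Nat.Prime 2) := ⟨Nat.prime_two⟩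
  set Q' : Sylow 2 ↥(Y.map π) := Q.subtype hQY
  have hQ'n : (Q' : Subgroup ↥(Y.map π)).Normal := by
    have := hQn
    show ((Q : Subgroup (G ⧸ T)).subgroupOf (Y.map π)).Normal
    infer_instance
  have h4Y : Four ↥(Y.map π) := by
    have hQuniq := Sylow.unique_of_normal Q hQn
    obtain ⟨P⟩ : Nonempty (Sylow 2 G) := inferInstance
    have hPQ : (P : Subgroup G).map π = (Q : Subgroup (G ⧸ T)) :=
      congrArg (fun S : Sylow 2 (G ⧸ T) => (S : Subgroup (G ⧸ T)))
        (Subsingleton.elim (P.mapSurjective (QuotientGroup.mk'_surjective T)) Q)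
    have hcomap : (Q : Subgroup (G ⧸ T)).comap π ≤ Y := fun x hx => by
      obtain ⟨y, hy, hxy⟩ := hQY hx
      have ht : y⁻¹ * x ∈ T := (QuotientGroup.eq (s := T)).1 hxy
      have := mul_mem hy (hTY ht)
      rwa [mul_inv_cancel_left] at this
    have hPY : (P : Subgroup G) ≤ Y := fun x hx => hcomap (show π x ∈ (Q : Subgroup (G ⧸ T)) from
      hPQ ▸ mem_map_of_mem π hx)
    have hT2 : ¬ 2 ∣ Nat.card T := by
      intro hd
      have h1 : 2 ∣ T.index := by
        refine dvd_trans ?_ ((index_eq_card T).symm ▸ (Q : Subgroup (G ⧸ T)).card_subgroup_dvd_card)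
        rw [card_eight e]
        norm_num
      exact absurd (Nat.dvd_one.1 (hcop.gcd_eq_one ▸ Nat.dvd_gcd hd h1)) (by norm_num)
    obtain ⟨i, hi, j, hj, hi2, hj2, hij2, hicom, hsq, hgen⟩ := exists_ijk e
    -- on every core: a part of `V` which is everything, or is centralised
    have hpart : ∀ p : ℕ, p.Prime → pCore p G ≤ V ∨ ∀ v ∈ V ⊓ pCore p G, ∀ x ∈ (P : Subgroup G), x * v = v * x := by
      intro p hp
      by_cases hfull : pCore p G ≤ V
      · exact Or.inl hfull
      refine Or.inr ?_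
      by_cases hzero : V ⊓ pCore p G = ⊥
      · intro v hv x _
        rw [hzero, mem_bot] at hv
        rw [hv, one_mul, mul_one]
      have hb : pCore p G ≠ ⊥ := fun h => hfull (h ▸ bot_le)
      have := Fact.mk hp
      obtain ⟨-, hexp, hNc⟩ := pCore_eq_sylow hB hno hb
      set N := pCore p G with hNdef
      have hNn : N.Normal := hcoreN p
      obtain ⟨n, hn⟩ := (PCore.isPGroup_pCore (p := p) (G := G)).exists_card_eq
      obtain ⟨a, ha⟩ := ((PCore.isPGroup_pCore (p := p) (G := G)).to_le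
        (inf_le_right : V ⊓ N ≤ N)).exists_card_eq
      have ha0 : 1 ≤ a := Nat.one_le_iff_ne_zero.2 fun h => hzero (card_eq_one.1 (by rw [ha, h, pow_zero]))
      have han : a < n := by
        by_contra hle
        exact hfull ((eq_of_le_of_card_ge (inf_le_right : V ⊓ N ≤ N) (by
          rw [ha, ← hNdef] at *; rw [hn]; exact Nat.pow_le_pow_right hp.pos (not_lt.1 hle))).ge.trans inf_le_left)
      have hline : ∀ x ∈ (P : Subgroup G), ∀ v : ↥N, φ ⟨p, hp⟩ (π x) v ∈ zpowers v := by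
        intro x hx v
        refine mem_zpowers_of_forall (p := p) hNc.is_comm.comm (fun b => Subtype.ext (hexp b b.2)) hn ha0 han
          fun W hW hvW => ?_
        obtain ⟨c, hc⟩ := hB (V ⊓ N) (W.map N.subtype)
          ⟨⟨fun a b => Subtype.ext (congrArg Subtype.val (hNc.is_comm.comm (⟨a, (mem_inf.1 a.2).2⟩ : ↥N)
            ⟨b, (mem_inf.1 b.2).2⟩) :)⟩⟩
          (by have := hNc; exact map_isMulCommutative W _)
          (by rw [ha, card_map_of_injective N.subtype_injective, hW])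
        have hv' : (v : G) ∈ W.map N.subtype := mem_map_of_mem _ hvW
        rw [hc] at hv'
        obtain ⟨u, hu, huv⟩ := hv'
        have hy : c⁻¹ * x * c ∈ Y := by
          refine hcomap ?_
          show π (c⁻¹ * x * c) ∈ (Q : Subgroup (G ⧸ T))
          have hpx : π x ∈ (Q : Subgroup (G ⧸ T)) := hPQ ▸ mem_map_of_mem π hx
          have := hQn.conj_mem _ hpx (π c⁻¹)
          rwa [← map_inv, ← map_mul, ← map_mul, inv_inv] at this
        have hu' : (c⁻¹ * x * c) * u * (c⁻¹ * x * c)⁻¹ ∈ V ⊓ N :=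
          mem_inf.2 ⟨(mem_normalizer_iff.1 hy u).1 (mem_inf.1 hu).1, hNn.conj_mem u (mem_inf.1 hu).2 _⟩
        have h3 : x * v * x⁻¹ ∈ W.map N.subtype := by
          rw [hc]
          refine ⟨_, hu', ?_⟩
          rw [← huv]
          show c * _ * c⁻¹ = x * (c * u * c⁻¹) * x⁻¹
          group
        obtain ⟨w, hw, hwe⟩ := h3
        have : φ ⟨p, hp⟩ (π x) v = w := Subtype.ext ((hφ ⟨p, hp⟩ x v).trans hwe.symm)
        exact this ▸ hw
      have hcomm : ∀ x ∈ (P : Subgroup G), ∀ y ∈ (P : Subgroup G),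
          φ ⟨p, hp⟩ (π x) * φ ⟨p, hp⟩ (π y) = φ ⟨p, hp⟩ (π y) * φ ⟨p, hp⟩ (π x) := by
        intro x hx y hy
        refine MulEquiv.ext fun v => ?_
        obtain ⟨r, hr⟩ := hline x hx v
        obtain ⟨s, hs⟩ := hline y hy v
        beta_reduce at hr hs
        rw [MulAut.mul_apply, MulAut.mul_apply, ← hs, ← hr, map_zpow, map_zpow, ← hs, ← hr, ← zpow_mul, ← zpow_mul,
          mul_comm]
      have hQlift : ∀ a ∈ (Q : Subgroup (G ⧸ T)), ∃ x ∈ (P : Subgroup G), π x = a := fun a ha => by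
        rw [← hPQ] at ha; exact ha
      have hcommQ : ∀ a ∈ (Q : Subgroup (G ⧸ T)), ∀ b ∈ (Q : Subgroup (G ⧸ T)),
          φ ⟨p, hp⟩ a * φ ⟨p, hp⟩ b = φ ⟨p, hp⟩ b * φ ⟨p, hp⟩ a := by
        intro a ha b hb
        obtain ⟨x, hx, rfl⟩ := hQlift a ha
        obtain ⟨y, hy, rfl⟩ := hQlift b hb
        exact hcomm x hx y hy
      have hi2' : φ ⟨p, hp⟩ i ^ 2 = 1 := by
        rw [← map_pow, hicom, map_mul, map_mul, map_mul, map_inv, map_inv, hcommQ i hi j hj, mul_inv_cancel_right,
          mul_inv_cancel]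
      have hsq' : ∀ a ∈ (Q : Subgroup (G ⧸ T)), φ ⟨p, hp⟩ a ^ 2 = 1 := by
        intro a ha
        rcases hsq a ha with h | h <;> rw [← map_pow, h]
        · rw [map_one]
        · rw [map_pow, hi2']
      have hp2 : 2 ≠ p := fun h => hT2 (by
        subst h
        obtain ⟨k, hk⟩ := (PCore.isPGroup_pCore (p := 2) (G := G)).exists_card_eq
        have hk0 : k ≠ 0 := fun h0 => hb (card_eq_one.1 (by rw [hNdef, hk, h0, pow_zero]))
        exact (hk ▸ dvd_pow_self 2 hk0 : 2 ∣ Nat.card ↥(pCore 2 G)).trans (card_dvd_of_le (hcoreT 2 hp)))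
      have hcy' := himage ⟨p, hp⟩ hb 2 Nat.prime_two hp2 Q hQn hcommQ hsq'
      obtain ⟨w, hwQ, hw2, hwk⟩ : ∃ w ∈ (Q : Subgroup (G ⧸ T)), w ^ 2 ≠ 1 ∧ φ ⟨p, hp⟩ w = 1 := by
        by_contra hall
        push Not at hall
        obtain ⟨⟨c, hc⟩, hgenc⟩ := hcy'.exists_generator
        have hone : ∀ a ∈ (Q : Subgroup (G ⧸ T)), a ^ 2 ≠ 1 → φ ⟨p, hp⟩ a = c := by
          intro a ha ha2
          obtain ⟨k, hk⟩ := hgenc ⟨_, mem_map_of_mem _ ha⟩
          have hk' : c ^ k = φ ⟨p, hp⟩ a := congrArg Subtype.val hk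
          obtain ⟨a', ha', hca⟩ := hc
          have hc2 : c ^ (2 : ℤ) = 1 := by rw [zpow_two, ← sq, ← hca]; exact hsq' a' ha'
          rcases Int.even_or_odd k with ⟨l, rfl⟩ | ⟨l, rfl⟩
          · rw [← two_mul, zpow_mul, hc2, one_zpow] at hk'
            exact absurd hk'.symm (hall a ha ha2)
          · rw [zpow_add, zpow_one, zpow_mul, hc2, one_zpow, one_mul] at hk'
            exact hk'.symm
        have h3 := hone (i * j) (mul_mem hi hj) hij2
        rw [map_mul, hone i hi hi2, hone j hj hj2, mul_eq_left] at h3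
        exact hall i hi hi2 ((hone i hi hi2).trans h3)
      have hker : ∀ a ∈ (Q : Subgroup (G ⧸ T)), a ^ 2 ≠ 1 → a ∈ (φ ⟨p, hp⟩).ker := fun a ha ha2 => by
        obtain ⟨d, hd⟩ := mem_zpowers_conj hBL ((orderOf_four e hwQ hw2).trans (orderOf_four e ha ha2).symm)
        exact zpowers_le.2 ((MonoidHom.normal_ker _).conj_mem w (MonoidHom.mem_ker.2 hwk) d) hd
      intro v hv x hx
      exact hφker ⟨p, hp⟩ x (MonoidHom.mem_ker.1
        (hgen _ (hker i hi hi2) (hker j hj hj2) (hPQ ▸ mem_map_of_mem π hx))) v (mem_inf.1 hv).2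
    intro x y hx hy
    set V0 : Subgroup G := V ⊓ centralizer ((P : Subgroup G) : Set G)
    have hlift : ∀ z : ↥(Y.map π), orderOf z = 4 → ∃ z' ∈ (P : Subgroup G), π z' = z ∧ orderOf z' = 4 := by
      intro z hz
      obtain ⟨S, hS⟩ := (IsPGroup.of_card (p := 2) (n := 2) (G := zpowers (z : G ⧸ T))
        (by rw [Nat.card_zpowers, Subgroup.orderOf_coe, hz]; rfl)).exists_le_sylow
      rw [Subsingleton.elim S Q] at hS
      obtain ⟨z', hz', hz'e⟩ : (z : G ⧸ T) ∈ (P : Subgroup G).map π := hPQ ▸ hS (mem_zpowers _)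
      refine ⟨z', hz', hz'e, ?_⟩
      have h4 : π (z' ^ 4) = 1 := by
        rw [map_pow, hz'e]
        exact orderOf_dvd_iff_pow_eq_one.1 (by rw [Subgroup.orderOf_coe, hz])
      have hmem : z' ^ 4 ∈ T := (QuotientGroup.eq_one_iff _).1 h4
      have h1 : z' ^ 4 = 1 := by
        rw [← orderOf_eq_one_iff, ← Nat.dvd_one]
        obtain ⟨k, hk⟩ := P.2.exists_card_eq
        rw [← (Nat.Coprime.pow_right k ((Nat.prime_two.coprime_iff_not_dvd).2 hT2).symm).gcd_eq_one, ← hk]
        exact Nat.dvd_gcd (orderOf_dvd_natCard T hmem) (orderOf_dvd_natCard _ (pow_mem hz' 4))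
      refine Nat.dvd_antisymm (orderOf_dvd_of_pow_eq_one h1) ?_
      have := orderOf_map_dvd π z'
      rwa [hz'e, Subgroup.orderOf_coe, hz] at this
    obtain ⟨x', hx'P, hx'e, hx'o⟩ := hlift x hx
    obtain ⟨y', hy'P, hy'e, hy'o⟩ := hlift y hy
    have hV0T : V0 ≤ T := inf_le_left.trans inf_le_right
    have hcoV : ∀ k : ℕ, (Nat.card V0).Coprime (2 ^ k) := fun k => Nat.Coprime.pow_right k
      ((Nat.prime_two.coprime_iff_not_dvd).2 fun h => hT2 (h.trans (card_dvd_of_le hV0T))).symm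
    have hcz : ∀ z ∈ (P : Subgroup G), orderOf z = 4 →
        IsMulCommutative ↥(V0 ⊔ zpowers z) ∧ zpowers z ≤ normalizer (V0 : Set G) ∧
          Nat.card (V0 ⊔ zpowers z : Subgroup G) = Nat.card V0 * 4 := by
      intro z hz hzo
      have hV0c : IsMulCommutative ↥V0 := ⟨⟨fun a b => Subtype.ext
        (congrArg Subtype.val (hTc.is_comm.comm (⟨a, hV0T a.2⟩ : ↥T) ⟨b, hV0T b.2⟩) :)⟩⟩
      have hcz : z ∈ centralizer (V0 : Set G) := mem_centralizer_iff.2 fun v hv =>
        (mem_centralizer_iff.1 (mem_inf.1 hv).2 z hz).symm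
      have hnorm : zpowers z ≤ normalizer (V0 : Set G) :=
        zpowers_le.2 (centralizer_le_normalizer (V0 : Set G) hcz)
      refine ⟨PGroup.isMulCommutative_sup_zpowers hV0c hcz, hnorm, ?_⟩
      rw [sup_comm, Coprime.card_sup_of_le_normalizer hnorm ?_, Nat.card_zpowers, hzo, mul_comm]
      refine Coprime.disjoint_of_coprime_card ?_
      rw [Nat.card_zpowers, hzo]
      exact (hcoV 2).symm
    obtain ⟨c, hc⟩ := hB _ _ (hcz x' hx'P hx'o).1 (hcz y' hy'P hy'o).1
      ((hcz x' hx'P hx'o).2.2.trans (hcz y' hy'P hy'o).2.2.symm)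
    have hcV0 : ∀ v ∈ V0, c * v * c⁻¹ ∈ V0 := by
      intro v hv
      have hmem : c * v * c⁻¹ ∈ zpowers y' ⊔ V0 := by
        rw [sup_comm, hc]
        exact ⟨v, mem_sup_left hv, rfl⟩
      obtain ⟨a, ha, r, hr, har⟩ :=
        (Coprime.mem_sup_iff_of_le_normalizer (hcz y' hy'P hy'o).2.1).1 hmem
      have h1 : π a = π c * π v * (π c)⁻¹ := by
        rw [← map_inv, ← map_mul, ← map_mul, ← har, map_mul, show π r = 1 from
          (QuotientGroup.eq_one_iff r).2 (hV0T hr), mul_one]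
      rw [show π v = 1 from (QuotientGroup.eq_one_iff v).2 (hV0T hv), mul_one, mul_inv_cancel] at h1
      have ha1 : a = 1 := by
        obtain ⟨k, hk⟩ := P.2.exists_card_eq
        rw [← orderOf_eq_one_iff, ← Nat.dvd_one,
          ← (Nat.Coprime.pow_right k ((Nat.prime_two.coprime_iff_not_dvd).2 hT2).symm).gcd_eq_one, ← hk]
        exact Nat.dvd_gcd (orderOf_dvd_natCard T ((QuotientGroup.eq_one_iff a).1 h1))
          (orderOf_dvd_natCard _ ((zpowers_le.2 hy'P) ha))
      rw [← har, ha1, one_mul]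
      exact hr
    have hcY : c ∈ Y := by
      have hfin : V.map (MulAut.conj c).toMonoidHom ≤ V := by
        rw [map_le_iff_le_comap]
        suffices h : (V.comap (MulAut.conj c).toMonoidHom).subgroupOf V = ⊤ from subgroupOf_eq_top.1 h
        refine Components.eq_top_of_forall_sylow fun p hp _ => ?_
        have := Fact.mk hp
        refine ⟨default, fun v hv => ?_⟩
        have hvc : (v : G) ∈ pCore p G :=
          le_pCore_of_le_fitting (IsPGroup.map (Sylow.isPGroup' (default : Sylow p ↥V)) V.subtype)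
            (fun z hz => by obtain ⟨w, -, rfl⟩ := hz; exact (mem_inf.1 w.2).2) (mem_map_of_mem _ hv)
        show c * v * c⁻¹ ∈ V
        rcases hpart p hp with h | h
        · exact h ((hcoreN p).conj_mem _ hvc c)
        · exact (mem_inf.1 (hcV0 v (mem_inf.2 ⟨v.2, mem_centralizer_iff.2 fun z hz =>
            h v (mem_inf.2 ⟨v.2, hvc⟩) z hz⟩))).1
      have heqV : V.map (MulAut.conj c).toMonoidHom = V := eq_of_le_of_card_ge hfin
        (by rw [card_map_of_injective (f := (MulAut.conj c).toMonoidHom) (MulAut.conj c).injective])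
      refine mem_normalizer_iff.2 fun v => ?_
      conv_rhs => rw [← heqV]
      exact (mem_map_iff_mem (f := (MulAut.conj c).toMonoidHom) (MulAut.conj c).injective).symm
    refine ⟨⟨π c, mem_map_of_mem π hcY⟩, ?_⟩
    have hy2 : y' ∈ V0 ⊔ zpowers y' := mem_sup_right (mem_zpowers y')
    rw [hc] at hy2
    obtain ⟨w, hw, hwe⟩ := hy2
    rw [sup_comm] at hw
    obtain ⟨a, ⟨k, rfl⟩, r, hr, rfl⟩ :=
      (Coprime.mem_sup_iff_of_le_normalizer (hcz x' hx'P hx'o).2.1).1 hw
    refine ⟨k, Subtype.ext ?_⟩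
    show (((π c) * x * (π c)⁻¹) ^ k : G ⧸ T) = y
    rw [← hy'e, ← hwe]
    show (π c * x * (π c)⁻¹) ^ k = π (c * (x' ^ k * r) * c⁻¹)
    rw [map_mul, map_mul, map_mul, map_zpow, map_inv, hx'e, show π r = 1 from
      (QuotientGroup.eq_one_iff r).2 (hV0T hr), mul_one, conj_zpow]
  refine same_of_q8 Q' ((subgroupOfEquivOfLe hQY).trans e) (fun q _ hq R => ?_) h4Y
  exact (hcy q R).resolve_right fun h => hq h.1

end Cfsg.Agent.BGroups
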