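import Cfsg.Agent.Lib.Coprime.Basic
import Cfsg.Agent.Lib.Frobenius.FixedPointFree
import Cfsg.Agent.Lib.Solvable.Basic
import Cfsg.Agent.Lib.CharInt.BrauerSuzuki
import Mathlib

/-!
# Conjugacy of subgroups of equal order: reduction steps

* `Same X` : subgroups of equal order are conjugate.
* `same_of_normal_prime`, `same_of_isZGroup`, `hall_step`, `isCyclic_image`.
-/

set_option autoImplicit false

namespace Cfsg.Agent.BGroups

open Subgroup Pointwise

universe u

variable {X : Type u} [Group X] [Finite X]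

/-- Any two subgroups of the same order are conjugate. -/
def Same (X : Type u) [Group X] : Prop :=
  ∀ H K : Subgroup X, Nat.card H = Nat.card K → ∃ g : X, MulAut.conj g • H = K

omit [Finite X] in
theorem smul_eq_map (g : X) (H : Subgroup X) :
    MulAut.conj g • H = H.map (MulAut.conj g).toMonoidHom := rfl

omit [Finite X] in
theorem card_map_mul {Y : Type*} [Group Y] (f : X →* Y) (A : Subgroup X) :
    Nat.card (A.map f) * Nat.card (f.ker ⊓ A : Subgroup X) = Nat.card A := by
  have h1 : f.ker.relIndex A = Nat.card (A.map f) := relIndex_ker (K := A) f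
  rw [← h1, mul_comm, ← inf_relIndex_right, relIndex,
    ← Nat.card_congr (subgroupOfEquivOfLe (inf_le_right : f.ker ⊓ A ≤ A)).toEquiv, card_mul_index]

omit [Finite X] in
theorem le_smul_of_normal {N A : Subgroup X} [hN : N.Normal] (h : N ≤ A) (g : X) :
    N ≤ MulAut.conj g • A := fun x hx =>
  Coprime.mem_conj_smul_iff.2 (h (by simpa using hN.conj_mem x hx g⁻¹))

omit [Finite X] in
theorem smul_eq_self_of_normal (N : Subgroup X) [N.Normal] (g : X) : MulAut.conj g • N = N :=
  Coprime.conj_smul_eq_self_of_mem (by rw [normalizer_eq_top]; exact mem_top g)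

/-- Lifting through a normal subgroup which is the only one of prime order `p`. -/
theorem same_of_normal_prime {p : ℕ} [hp : Fact p.Prime] (N : Subgroup X) [N.Normal]
    (hN : Nat.card N = p) (hu : ∀ K : Subgroup X, Nat.card K = p → K = N) (hq : Same (X ⧸ N)) :
    Same X := by
  intro A B h
  let π := QuotientGroup.mk' N
  have hker : π.ker = N := QuotientGroup.ker_mk' N
  have hmem : ∀ C : Subgroup X, p ∣ Nat.card C → N ≤ C := by
    intro C hC
    obtain ⟨x, hx⟩ := exists_prime_orderOf_dvd_card' p hC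
    rw [← hu (zpowers (x : X)) (by rw [Nat.card_zpowers, Subgroup.orderOf_coe, hx])]
    exact zpowers_le.2 x.2
  have hdisj : ∀ C : Subgroup X, ¬ p ∣ Nat.card C → π.ker ⊓ C = ⊥ := by
    intro C hC
    rw [hker]
    refine Coprime.disjoint_of_coprime_card ?_
    rw [hN]
    exact hp.out.coprime_iff_not_dvd.2 hC
  by_cases hpA : p ∣ Nat.card A
  · have hNA := hmem A hpA
    have hNB := hmem B (h ▸ hpA)
    obtain ⟨gq, hg⟩ := hq (A.map π) (B.map π) (by
      have e1 := card_map_mul π A
      have e2 := card_map_mul π B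
      rw [hker, inf_eq_left.2 hNA] at e1
      rw [hker, inf_eq_left.2 hNB] at e2
      exact Nat.eq_of_mul_eq_mul_right Nat.card_pos (e1.trans (h.trans e2.symm)))
    obtain ⟨g, rfl⟩ := QuotientGroup.mk'_surjective N gq
    refine ⟨g, ?_⟩
    rw [← Coprime.map_conj_smul] at hg
    have := Coprime.map_sup_eq_of_map_quotient_eq hg
    rwa [sup_eq_left.2 (le_smul_of_normal hNA g), sup_eq_left.2 hNB] at this
  · have hpB : ¬ p ∣ Nat.card B := h ▸ hpA
    obtain ⟨gq, hg⟩ := hq (A.map π) (B.map π) (by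
      have e1 := card_map_mul π A
      have e2 := card_map_mul π B
      rw [hdisj A hpA, card_bot, mul_one] at e1
      rw [hdisj B hpB, card_bot, mul_one] at e2
      exact e1.trans (h.trans e2.symm))
    obtain ⟨g, rfl⟩ := QuotientGroup.mk'_surjective N gq
    rw [← Coprime.map_conj_smul] at hg
    have hsup := Coprime.map_sup_eq_of_map_quotient_eq hg
    have hNc : IsCyclic N := isCyclic_of_prime_card hN
    obtain ⟨t, -, ht⟩ := Coprime.exists_conj_eq_of_le_sup (N := N) (H := MulAut.conj g • A) (K := B)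
      (by rw [normalizer_eq_top]; exact le_top) (le_sup_left.trans hsup.ge)
      (by rw [Coprime.card_conj_smul, h]) (by
        rw [Coprime.card_conj_smul, hN]
        exact (hp.out.coprime_iff_not_dvd.2 hpA).symm)
      (Or.inl (by
        let _ : CommGroup N := hNc.commGroup
        infer_instance))
    exact ⟨t * g, by rw [← Coprime.conj_smul_smul, ht]⟩

/-- Subgroups of equal order are conjugate when all Sylow subgroups are cyclic. -/
theorem same_of_isZGroup [IsZGroup X] : Same X := by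
  induction hn : Nat.card X using Nat.strong_induction_on generalizing X with
  | _ n ih =>
    subst hn
    rcases subsingleton_or_nontrivial X with hX | hX
    · exact fun H K _ => ⟨1, Subsingleton.elim _ _⟩
    obtain ⟨M, p, hM, -, hMne, -, -, hp, hMp⟩ := Solvable.exists_abelian_minimal_normal (K := (⊤ : Subgroup X))
      inferInstance top_ne_bot
    have := Fact.mk hp
    obtain ⟨k, hk⟩ := hMp.exists_card_eq
    have hk0 : k ≠ 0 := fun h0 => hMne (card_eq_one.1 (by rw [hk, h0, pow_zero]))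
    obtain ⟨z, hz⟩ := exists_prime_orderOf_dvd_card' p (hk ▸ dvd_pow_self p hk0 : p ∣ Nat.card M)
    set N := zpowers (z : X)
    have hN : Nat.card N = p := by rw [Nat.card_zpowers, Subgroup.orderOf_coe, hz]
    have hu : ∀ K : Subgroup X, Nat.card K = p → K = N := by
      intro K hK
      obtain ⟨P, hP⟩ := (IsPGroup.of_card (n := 1) (hK.trans (pow_one p).symm)).exists_le_sylow
      have hNP : N ≤ (P : Subgroup X) := zpowers_le.2 (IsPGroup.le_sylow_of_normal hMp P z.2)
      have := CharInt.eq_of_card_eq_of_isCyclic (α := ↥(P : Subgroup X))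
        (H := K.subgroupOf P) (K := N.subgroupOf P)
        (by rw [Coprime.card_subgroupOf hP, Coprime.card_subgroupOf hNP, hK, hN])
      exact le_antisymm (fun x hx => by
          have hx' : (⟨x, hP hx⟩ : ↥(P : Subgroup X)) ∈ N.subgroupOf P := this ▸ hx
          exact hx')
        (fun x hx => by
          have hx' : (⟨x, hNP hx⟩ : ↥(P : Subgroup X)) ∈ K.subgroupOf P := this.symm ▸ hx
          exact hx')
    have hNn : N.Normal := ⟨fun x hx g => by
      have := hu (MulAut.conj g • N) (by rw [Coprime.card_conj_smul, hN])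
      rw [← this, Coprime.mem_conj_smul_iff]
      simpa [mul_assoc] using hx⟩
    refine same_of_normal_prime N hN hu (ih _ ?_ rfl)
    rw [← index_eq_card, ← card_mul_index N, hN]
    exact lt_mul_of_one_lt_left (Nat.pos_of_ne_zero FiniteIndex.index_ne_zero) hp.one_lt

/-- The order of the intersection with a normal Hall subgroup depends on the order only. -/
theorem card_inf_hall {R : Subgroup X} [R.Normal] (hR : (Nat.card R).Coprime R.index) (A : Subgroup X) :
    Nat.card (A ⊓ R : Subgroup X) = Nat.gcd (Nat.card A) (Nat.card R) := by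
  refine Nat.dvd_antisymm (Nat.dvd_gcd (card_dvd_of_le inf_le_left) (card_dvd_of_le inf_le_right)) ?_
  have h := card_map_mul (QuotientGroup.mk' R) A
  rw [QuotientGroup.ker_mk', inf_comm] at h
  refine (Nat.Coprime.dvd_of_dvd_mul_left ?_ ((Nat.gcd_dvd_left (Nat.card A) (Nat.card R)).trans h.symm.dvd))
  exact (hR.coprime_dvd_left (Nat.gcd_dvd_right _ _)).coprime_dvd_right
    ((card_subgroup_dvd_card _).trans (index_eq_card R).symm.dvd)

/-- A complement to `A ⊓ R` inside `A`. -/
theorem exists_part {R : Subgroup X} [R.Normal] (hR : (Nat.card R).Coprime R.index) (A : Subgroup X) :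
    ∃ C ≤ A, C ⊔ A ⊓ R = A ∧ R ⊓ C = ⊥ ∧ Nat.card C * Nat.card (A ⊓ R : Subgroup X) = Nat.card A := by
  set V := (A ⊓ R).subgroupOf A
  have hVn : V.Normal := by
    show ((A ⊓ R).subgroupOf A).Normal
    rw [inf_subgroupOf_left]
    infer_instance
  have hVi : V.index ∣ R.index := by
    show (A ⊓ R).relIndex A ∣ _
    rw [inf_comm, inf_relIndex_right]
    exact relIndex_dvd_index_of_normal R A
  have hcop : (Nat.card V).Coprime V.index := by
    refine (hR.coprime_dvd_left ?_).coprime_dvd_right hVi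
    rw [Coprime.card_subgroupOf inf_le_left]
    exact card_dvd_of_le inf_le_right
  obtain ⟨D, hD⟩ := exists_right_complement'_of_coprime hcop
  have hVmap : V.map A.subtype = A ⊓ R := map_subgroupOf_eq_of_le inf_le_left
  refine ⟨D.map A.subtype, map_subtype_le D, ?_, ?_, ?_⟩
  · rw [← hVmap, ← Subgroup.map_sup, sup_comm, hD.sup_eq_top, ← MonoidHom.range_eq_map, range_subtype]
  · rw [eq_bot_iff]
    rintro x ⟨hxR, d, hd, rfl⟩
    rw [mem_bot]
    have hdV : d ∈ V := ⟨d.2, hxR⟩
    have : d ∈ V ⊓ D := ⟨hdV, hd⟩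
    rw [hD.disjoint.eq_bot, mem_bot] at this
    rw [this]
    rfl
  · rw [card_map_of_injective A.subtype_injective, ← hVmap, card_map_of_injective A.subtype_injective,
      mul_comm, hD.card_mul_card]

/-- Reduction modulo a normal Hall subgroup. -/
theorem hall_step [Group.IsSolvable X] {R : Subgroup X} [R.Normal] (hR : (Nat.card R).Coprime R.index)
    {A B : Subgroup X} (hcard : Nat.card A = Nat.card B)
    (hw : ∃ g : X, MulAut.conj g • (A ⊓ R) = B ⊓ R)
    (hY : Same ↥((normalizer ((B ⊓ R : Subgroup X) : Set X)).map (QuotientGroup.mk' R))) :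
    ∃ g : X, MulAut.conj g • A = B := by
  obtain ⟨g, hg⟩ := hw
  set Y := normalizer ((B ⊓ R : Subgroup X) : Set X)
  set π := QuotientGroup.mk' R
  set A₁ := MulAut.conj g • A
  have hA₁ : A₁ ⊓ R = B ⊓ R := by
    rw [← hg, Subgroup.smul_inf, smul_eq_self_of_normal R g]
  have hle : ∀ C : Subgroup X, C ⊓ R = B ⊓ R → C ≤ Y := by
    intro C hC c hc
    refine mem_normalizer_iff.2 fun v => ?_
    show v ∈ B ⊓ R ↔ c * v * c⁻¹ ∈ B ⊓ R
    rw [← hC]
    constructor
    · intro hv
      obtain ⟨hv1, hv2⟩ := mem_inf.1 hv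
      exact mem_inf.2 ⟨mul_mem (mul_mem hc hv1) (inv_mem hc), (inferInstance : R.Normal).conj_mem v hv2 c⟩
    · intro hv
      obtain ⟨hv1, hv2⟩ := mem_inf.1 hv
      refine mem_inf.2 ⟨?_, ?_⟩
      · have := mul_mem (mul_mem (inv_mem hc) hv1) hc
        simpa [mul_assoc] using this
      · have := (inferInstance : R.Normal).conj_mem _ hv2 c⁻¹
        simpa [mul_assoc] using this
  have hA₁Y := hle A₁ hA₁
  have hBY := hle B rfl
  obtain ⟨A', hA'le, hA'sup, hA'dis, hA'card⟩ := exists_part hR A₁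
  obtain ⟨B', hB'le, hB'sup, hB'dis, hB'card⟩ := exists_part hR B
  rw [hA₁] at hA'sup hA'card
  have hcard' : Nat.card A' = Nat.card B' :=
    Nat.eq_of_mul_eq_mul_right Nat.card_pos (by rw [hA'card, hB'card, Coprime.card_conj_smul, hcard])
  have hmapcard : ∀ C : Subgroup X, R ⊓ C = ⊥ → Nat.card (C.map π) = Nat.card C := by
    intro C hC
    have := card_map_mul π C
    rwa [QuotientGroup.ker_mk', hC, card_bot, mul_one] at this
  have hAm : A'.map π ≤ Y.map π := map_mono (hA'le.trans hA₁Y)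
  have hBm : B'.map π ≤ Y.map π := map_mono (hB'le.trans hBY)
  obtain ⟨⟨_, y, hy, rfl⟩, hyc⟩ := hY ((A'.map π).subgroupOf (Y.map π)) ((B'.map π).subgroupOf (Y.map π))
    (by rw [Coprime.card_subgroupOf hAm, Coprime.card_subgroupOf hBm, hmapcard A' hA'dis, hmapcard B' hB'dis, hcard'])
  have hyc' := Coprime.conj_smul_of_subgroupOf hAm hBm _ hyc
  rw [← Coprime.map_conj_smul] at hyc'
  have hsup := Coprime.map_sup_eq_of_map_quotient_eq hyc'
  set A'' := MulAut.conj y • A'
  have hYc : ∀ (c : X), c ∈ Y → ∀ C : Subgroup X, C ≤ Y → MulAut.conj c • C ≤ Y := by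
    intro c hc C hC x hx
    rw [Coprime.mem_conj_smul_iff] at hx
    have := mul_mem (mul_mem hc (hC hx)) (inv_mem hc)
    simpa [mul_assoc] using this
  have hA''Y : A'' ≤ Y := hYc y hy A' (hA'le.trans hA₁Y)
  have hnormR : ∀ C : Subgroup X, C ≤ normalizer (R : Set X) := fun C => by
    rw [normalizer_eq_top]; exact le_top
  have hB'sub : B' ≤ A'' ⊔ R ⊓ Y := by
    intro b hb
    have hb' : b ∈ A'' ⊔ R := hsup.ge (mem_sup_left hb)
    obtain ⟨a, ha, r, hr, rfl⟩ := (Coprime.mem_sup_iff_of_le_normalizer (hnormR A'')).1 hb'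
    refine mul_mem (mem_sup_left ha) (mem_sup_right ⟨hr, ?_⟩)
    have := mul_mem (inv_mem (hA''Y ha)) (hBY (hB'le hb))
    simpa using this
  obtain ⟨t, ht, htc⟩ := Coprime.exists_conj_eq_of_le_sup (N := R ⊓ Y) (H := A'') (K := B')
    (fun a ha => mem_normalizer_iff.2 fun x => by
      have hRn : R.Normal := inferInstance
      constructor
      · intro hx
        obtain ⟨hx1, hx2⟩ := mem_inf.1 hx
        exact mem_inf.2 ⟨hRn.conj_mem x hx1 a, mul_mem (mul_mem (hA''Y ha) hx2) (inv_mem (hA''Y ha))⟩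
      · intro hx
        obtain ⟨hx1, hx2⟩ := mem_inf.1 hx
        refine mem_inf.2 ⟨?_, ?_⟩
        · have := hRn.conj_mem _ hx1 a⁻¹
          simpa [mul_assoc] using this
        · have := mul_mem (mul_mem (inv_mem (hA''Y ha)) hx2) (hA''Y ha)
          simpa [mul_assoc] using this)
    hB'sub (by rw [Coprime.card_conj_smul, hcard'])
    (by
      rw [Coprime.card_conj_smul, ← hmapcard A' hA'dis]
      exact (hR.symm.coprime_dvd_right (card_dvd_of_le inf_le_left)).coprime_dvd_left
        ((card_subgroup_dvd_card _).trans (index_eq_card R).symm.dvd))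
    (Or.inl inferInstance)
  refine ⟨t * y * g, ?_⟩
  have hfix : MulAut.conj (t * y) • (B ⊓ R) = B ⊓ R :=
    Coprime.conj_smul_eq_self_of_mem (mul_mem ht.2 hy)
  rw [← Coprime.conj_smul_smul]
  show MulAut.conj (t * y) • A₁ = B
  rw [← hA'sup, Subgroup.smul_sup, hfix, ← Coprime.conj_smul_smul, htc, hB'sup]

section Image

variable {L N : Type*} [Group L] [CommGroup N] [Finite N]

/-- An abelian normal subgroup of prime exponent of a group transitive on the subgroups of order `p`
of an elementary abelian `p`-group acts as a cyclic group. -/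
theorem isCyclic_image {p q : ℕ} [hp : Fact p.Prime] (hq : q.Prime) (hqp : q ≠ p) [Nontrivial N]
    (hexp : ∀ v : N, v ^ p = 1) (φ : L →* MulAut N)
    (htrans : ∀ v w : N, v ≠ 1 → w ≠ 1 → ∃ l, φ l v ∈ zpowers w) (M : Subgroup L) [M.Normal]
    (hcomm : ∀ a ∈ M, ∀ b ∈ M, φ a * φ b = φ b * φ a) (hMq : ∀ a ∈ M, φ a ^ q = 1) :
    IsCyclic ↥(M.map φ) := by
  have hfin : Finite (MulAut N) := Finite.of_injective (fun σ => (σ : N → N)) DFunLike.coe_injective
  by_cases hfpf : Frobenius.Fpf.IsFpf (M.map φ).subtype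
  · refine Frobenius.Fpf.isCyclic_of_comm hfpf ?_
    rintro ⟨_, a, ha, rfl⟩ ⟨_, b, hb, rfl⟩
    exact Subtype.ext (hcomm a ha b hb)
  exfalso
  simp only [Frobenius.Fpf.IsFpf, not_forall] at hfpf
  obtain ⟨⟨_, m, hm, rfl⟩, hm1, v, hv, hv1⟩ := hfpf
  change φ m v = v at hv
  have hm1' : φ m ≠ 1 := fun h => hm1 (Subtype.ext h)
  let f : N →* N := (φ m).toMonoidHom / MonoidHom.id N
  have hf : ∀ x, f x = φ m x / x := fun x => rfl
  have hfix : ∀ x, φ m (f x) = f x → f x = 1 := by
    intro x hx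
    have h1 : ∀ i : ℕ, (φ m ^ i) x = x * f x ^ i := by
      intro i
      induction i with
      | zero => simp
      | succ i ih => rw [pow_succ', MulAut.mul_apply, ih, map_mul, map_pow, hx, hf, pow_succ', ← mul_assoc,
          mul_div_cancel]
    have h2 := h1 q
    rw [hMq m hm, MulAut.one_apply, eq_comm, mul_eq_left] at h2
    have h3 := Nat.dvd_gcd (orderOf_dvd_of_pow_eq_one h2) (orderOf_dvd_of_pow_eq_one (hexp (f x)))
    rwa [((Nat.coprime_primes hq hp.out).2 hqp).gcd_eq_one, Nat.dvd_one, orderOf_eq_one_iff] at h3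
  obtain ⟨x, hx⟩ : ∃ x, f x ≠ 1 := by
    by_contra hall
    push Not at hall
    refine hm1' (MulEquiv.ext fun x => ?_)
    have := hall x
    rwa [hf, div_eq_one] at this
  let St : N → Subgroup (MulAut N) := fun u =>
    M.map φ ⊓ MulAction.stabilizer (MulAut N) u
  have hSt : ∀ u w : N, u ≠ 1 → w ≠ 1 → Nat.card (St u) ≤ Nat.card (St w) := by
    intro u w hu hw
    obtain ⟨l, hl⟩ := htrans u w hu hw
    have hlu : φ l u ≠ 1 := fun h => hu ((φ l).injective (h.trans (map_one (φ l)).symm))
    have heq : zpowers (φ l u) = zpowers w := by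
      refine eq_of_le_of_card_ge (zpowers_le.2 hl) ?_
      rw [Nat.card_zpowers, Nat.card_zpowers, orderOf_eq_prime (hexp _) hlu, orderOf_eq_prime (hexp _) hw]
    have hwl : w ∈ zpowers (φ l u) := heq ▸ mem_zpowers w
    rw [← card_map_of_injective (f := (MulAut.conj (φ l)).toMonoidHom) (MulAut.conj (φ l)).injective (K := St u)]
    refine Nat.le_of_dvd Nat.card_pos (card_dvd_of_le ?_)
    rintro _ ⟨σ, ⟨⟨a, ha, rfl⟩, hσ⟩, rfl⟩
    change φ a u = u at hσ
    refine ⟨⟨l * a * l⁻¹, (inferInstance : M.Normal).conj_mem a ha l, ?_⟩, ?_⟩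
    · rw [map_mul, map_mul, map_inv]; rfl
    · show (φ l * φ a * (φ l)⁻¹) w = w
      obtain ⟨i, hi⟩ := hwl
      beta_reduce at hi
      rw [← hi, map_zpow, MulAut.mul_apply, MulAut.mul_apply, MulAut.inv_apply_self, hσ]
  set w := f x with hwdef
  have hu1 : v * w ≠ 1 := by
    intro h
    refine hx (hfix x ?_)
    have hw' : w = v⁻¹ := eq_inv_of_mul_eq_one_right h
    rw [← hwdef, hw', map_inv, hv]
  have hle : St (v * w) ≤ St v ⊓ St w := by
    rintro σ ⟨⟨a, ha, rfl⟩, hσ⟩
    change φ a (v * w) = v * w at hσ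
    rw [map_mul] at hσ
    have hc : ∀ z, φ a (φ m z) = φ m (φ a z) := fun z => by
      rw [← MulAut.mul_apply, hcomm a ha m hm, MulAut.mul_apply]
    have hw2 : φ a w = f (φ a x) := by rw [hwdef, hf, hf, map_div, hc]
    have ht : φ a v / v = f (x / φ a x) := by
      rw [map_div, ← hw2, ← hwdef, div_eq_div_iff_mul_eq_mul, hσ, mul_comm]
    have h1 : φ m (f (x / φ a x)) = f (x / φ a x) := by
      rw [← ht, map_div, ← hc, hv]
    have h2 := ht.trans (hfix _ h1)
    rw [div_eq_one] at h2
    rw [h2, mul_right_inj] at hσ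
    exact ⟨⟨⟨a, ha, rfl⟩, h2⟩, ⟨⟨a, ha, rfl⟩, hσ⟩⟩
  have e1 : St (v * w) = St v := eq_of_le_of_card_ge (hle.trans inf_le_left) (hSt v _ hv1 hu1)
  have e2 : St (v * w) = St w := eq_of_le_of_card_ge (hle.trans inf_le_right) (hSt w _ hx hu1)
  have hmv : φ m ∈ St v := ⟨⟨m, hm, rfl⟩, hv⟩
  rw [← e1, e2] at hmv
  exact hx (hfix x hmv.2)

end Image

end Cfsg.Agent.BGroups
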