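import Cfsg.Agent.Lib.BGroups.Quaternion
import Cfsg.Agent.Lib.Components.Fitting
import Cfsg.Agent.Lib.PCore.Basic

/-!
# Solvable groups with conjugate abelian subgroups of equal order: Fitting structure
-/

set_option autoImplicit false

namespace Cfsg.Agent.BGroups

open Subgroup Pointwise Cfsg

universe u

variable {X : Type u} [Group X] [Finite X]

/-- A `q`-subgroup of the Fitting subgroup lies in the `q`-core. -/
theorem le_pCore_of_le_fitting {q : ℕ} [Fact q.Prime] {S : Subgroup X} (hS : IsPGroup q S)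
    (hle : S ≤ fittingSubgroup X) : S ≤ pCore q X := by
  have hc := Components.fittingSubgroup_isNilpotent X
  obtain ⟨R, hR⟩ := (IsPGroup.comap_subtype hS : IsPGroup q ↥(S.subgroupOf (fittingSubgroup X))).exists_le_sylow
  have hn : (fittingSubgroup X).Normal := sSup_normal _ fun _ h => h.1
  have hRc : (R : Subgroup ↥(fittingSubgroup X)).Characteristic := R.characteristic_of_normal inferInstance
  have : ((R : Subgroup ↥(fittingSubgroup X)).map (fittingSubgroup X).subtype).Normal :=
    ConjAct.normal_of_characteristic_of_normal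
  intro x hx
  exact PCore.le_pCore (N := (R : Subgroup ↥(fittingSubgroup X)).map (fittingSubgroup X).subtype) (R.2.map _)
    ⟨⟨x, hle hx⟩, hR hx, rfl⟩

theorem le_of_forall_pCore {K : Subgroup X} (h : ∀ p : ℕ, p.Prime → pCore p X ≤ K) :
    fittingSubgroup X ≤ K := by
  rw [Components.fittingSubgroup_eq_iSup_pCore]
  exact iSup_le fun p => h p (Nat.prime_of_mem_primeFactors p.2)

/-- An element centralising all the cores lies in the Fitting subgroup. -/
theorem mem_fitting [Group.IsSolvable X] {x : X}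
    (h : ∀ p : ℕ, p.Prime → ∀ v ∈ pCore p X, x * v = v * x) : x ∈ fittingSubgroup X := by
  refine Components.centralizer_fittingSubgroup_le (mem_centralizer_iff.2 fun v hv => ?_)
  have hle : fittingSubgroup X ≤ centralizer {x} := le_of_forall_pCore fun p hp w hw =>
    mem_centralizer_singleton_iff.2 (h p hp w hw).symm
  exact mem_centralizer_singleton_iff.1 (hle hv)

omit [Finite X] in
theorem mem_ker_conjNormal {N : Subgroup X} [N.Normal] {x : X} :
    x ∈ (MulAut.conjNormal : X →* MulAut N).ker ↔ ∀ v ∈ N, x * v = v * x := by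
  rw [MonoidHom.mem_ker, MulEquiv.ext_iff]
  constructor
  · intro h v hv
    have := congrArg Subtype.val (h ⟨v, hv⟩)
    rw [MulAut.conjNormal_apply, MulAut.one_apply] at this
    exact mul_inv_eq_iff_eq_mul.1 this
  · intro h v
    refine Subtype.ext ?_
    rw [MulAut.conjNormal_apply, MulAut.one_apply]
    exact mul_inv_eq_iff_eq_mul.2 (h v v.2)

omit [Finite X] in
/-- The exponent-`q` Sylow subgroup lies in each normal subgroup of order divisible by `q`. -/
theorem le_of_exp [Finite X] (hB : HB X) {q : ℕ} [hq : Fact q.Prime] {P K : Subgroup X} [K.Normal]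
    (hexp : ∀ x ∈ P, x ^ q = 1) {a : X} (ha : a ∈ K) (hao : orderOf a = q) : P ≤ K := by
  intro x hx
  by_cases hx1 : x = 1
  · exact hx1 ▸ one_mem K
  obtain ⟨g, hg⟩ := mem_zpowers_conj hB (hao.trans (orderOf_eq_prime (hexp x hx) hx1).symm)
  exact zpowers_le.2 ((inferInstance : K.Normal).conj_mem a ha g) hg

/-- A cyclic-exponent dichotomy. -/
theorem isCyclic_of_card_le_prime {q : ℕ} [hq : Fact q.Prime] {V : Subgroup X} (hV : IsPGroup q V)
    (hle : Nat.card V ≤ q) : IsCyclic ↥V := by
  obtain ⟨k, hk⟩ := hV.exists_card_eq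
  have : k ≤ 1 := by
    by_contra h
    have h2 : q ^ 2 ≤ q ^ k := Nat.pow_le_pow_right hq.out.pos (by omega)
    have := hq.out.two_le
    nlinarith
  rcases Nat.le_one_iff_eq_zero_or_eq_one.1 this with rfl | rfl
  · have := card_eq_one.1 (by rw [hk, pow_zero])
    rw [this]
    infer_instance
  · exact isCyclic_of_prime_card (hk.trans (pow_one q))

/-- A coprime automorphism of the quaternion group fixing `i` fixes `j`. -/
theorem commute_of_conj {S : Subgroup X} (e : ↥S ≃* QuaternionGroup 2) {i j s : X} {q : ℕ}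
    (hi : i ∈ S) (hj : j ∈ S) (hij : i * j ≠ j * i) (hsi : Commute s i) (hsq : s ^ q = 1)
    (hsj : s * j * s⁻¹ ∈ S) (hq : q.Coprime 2) : Commute s j := by
  have hf : ∀ u v w : QuaternionGroup 2, u * v ≠ v * u → u * w ≠ w * u → ∃ m : Fin 4, w = u ^ (m : ℕ) * v := by
    decide
  have hne : ∀ v (hv : v ∈ S), i * v ≠ v * i → e ⟨i, hi⟩ * e ⟨v, hv⟩ ≠ e ⟨v, hv⟩ * e ⟨i, hi⟩ :=
    fun v hv h h' => h (by
      rw [← map_mul, ← map_mul] at h'
      exact congrArg Subtype.val (e.injective h'))
  have hconj : i * (s * j * s⁻¹) ≠ s * j * s⁻¹ * i := fun h => hij (by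
    have h1 : s⁻¹ * (i * (s * j * s⁻¹)) * s = s⁻¹ * (s * j * s⁻¹ * i) * s := by rw [h]
    have h2 : s⁻¹ * i = i * s⁻¹ := hsi.inv_left.eq
    calc i * j = s⁻¹ * (i * (s * j * s⁻¹)) * s := by
          rw [← mul_assoc, h2]; group
      _ = s⁻¹ * (s * j * s⁻¹ * i) * s := h1
      _ = j * (s⁻¹ * i) * s := by group
      _ = j * i := by rw [h2]; group)
  obtain ⟨m, hm⟩ := hf _ _ _ (hne j hj hij) (hne _ hsj hconj)
  have hm' : (⟨s * j * s⁻¹, hsj⟩ : ↥S) = ⟨i, hi⟩ ^ (m : ℕ) * ⟨j, hj⟩ := e.injective (by rw [map_mul, map_pow, hm])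
  have hm'' : s * j * s⁻¹ = i ^ (m : ℕ) * j := congrArg Subtype.val hm'
  have hk : ∀ k : ℕ, s ^ k * j * (s ^ k)⁻¹ = i ^ (k * (m : ℕ)) * j := by
    intro k
    induction k with
    | zero => simp
    | succ k ih =>
      calc s ^ (k + 1) * j * (s ^ (k + 1))⁻¹ = s * (s ^ k * j * (s ^ k)⁻¹) * s⁻¹ := by rw [pow_succ']; group
        _ = s * i ^ (k * (m : ℕ)) * (j * s⁻¹) := by rw [ih]; group
        _ = i ^ (k * (m : ℕ)) * (s * j * s⁻¹) := by rw [(hsi.pow_right _).eq]; group
        _ = i ^ ((k + 1) * (m : ℕ)) * j := by rw [hm'', add_mul, one_mul, pow_add]; group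
  have h1 := hk q
  rw [hsq, inv_one, mul_one, one_mul, right_eq_mul] at h1
  have h4 : i ^ (2 * 2) = 1 := by
    have : (⟨i, hi⟩ : ↥S) ^ 4 = 1 := e.injective (by rw [map_pow, map_one]; exact S3912.q8_facts.1 _)
    exact congrArg Subtype.val this
  have hd : orderOf i ∣ (m : ℕ) := by
    have ha : orderOf i ∣ q * (m : ℕ) := orderOf_dvd_of_pow_eq_one h1
    have hb : orderOf i ∣ 2 * 2 := orderOf_dvd_of_pow_eq_one h4
    exact ((hq.mul_right hq).coprime_dvd_right hb).symm.dvd_of_dvd_mul_left ha
  rw [orderOf_dvd_iff_pow_eq_one.1 hd, one_mul] at hm''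
  exact mul_inv_eq_iff_eq_mul.1 hm''

/-- The Fitting subgroup when there is no normal subgroup of prime order. -/
theorem pCore_eq_sylow [Group.IsSolvable X] (hB : HB X)
    (hno : ∀ (N : Subgroup X), N.Normal → ¬ (Nat.card N).Prime) {p : ℕ} [hp : Fact p.Prime]
    (h : pCore p X ≠ ⊥) : (∀ P : Sylow p X, (P : Subgroup X) = pCore p X) ∧
      (∀ x ∈ pCore p X, x ^ p = 1) ∧ IsMulCommutative ↥(pCore p X) := by
  have hpn : (pCore p X).Normal := sSup_normal _ fun _ h => h.1
  obtain ⟨N, r, hN, hNle, hNne, hmin, hNc, hr, hNr⟩ :=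
    Solvable.exists_abelian_minimal_normal (K := pCore p X) inferInstance h
  have hNp : IsPGroup p N := (PCore.isPGroup_pCore (p := p)).to_le hNle
  have := hN
  obtain ⟨s, hs, hexp, hNs⟩ := Solvable.exists_prime_of_minimal hNne hmin
  obtain ⟨k, hk⟩ := hNp.exists_card_eq
  have hk0 : k ≠ 0 := fun h0 => hNne (card_eq_one.1 (by rw [hk, h0, pow_zero]))
  obtain ⟨a, ha⟩ := exists_prime_orderOf_dvd_card' p (hk ▸ dvd_pow_self p hk0 : p ∣ Nat.card N)
  have ha' : orderOf (a : X) = p := by rw [Subgroup.orderOf_coe, ha]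
  have hsp : s = p := by
    have hd : p ∣ s := ha' ▸ orderOf_dvd_of_pow_eq_one (hexp a a.2)
    exact ((Nat.prime_dvd_prime_iff_eq hp.out hs).1 hd).symm
  subst hsp
  have hk2 : 2 ≤ k := by
    by_contra h2
    exact hno N hN (by rw [hk, show k = 1 by omega, pow_one]; exact hp.out)
  have hPle : ∀ P : Sylow s X, (P : Subgroup X) ≤ N := by
    intro P
    have hNP : N ≤ (P : Subgroup X) := IsPGroup.le_sylow_of_normal hNp P
    have hbig : s < Nat.card N := by
      rw [hk]
      exact lt_self_pow₀ hp.out.one_lt hk2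
    rcases sylow_types hB s P with hc | he | ⟨hs2, ⟨e⟩⟩
    · exfalso
      have := isCyclic_of_le hNP
      obtain ⟨y, hy⟩ := this.exists_generator
      have h1 : orderOf y ≤ s := Nat.le_of_dvd hp.out.pos
        (orderOf_dvd_of_pow_eq_one (Subtype.ext (hexp y y.2)))
      rw [orderOf_eq_card_of_forall_mem_zpowers hy] at h1
      omega
    · exact le_of_exp hB he a.2 ha'
    · exfalso
      subst hs2
      rcases cases_le e hNP with hh | ⟨x, -, hxo, hh⟩ | hh | ⟨z, -, hz1, hz2, hh⟩
      · obtain ⟨i, hi, -, -, hi2, -⟩ := exists_ijk e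
        exact hi2 (hexp i (hh ▸ hi))
      · have hxN : x ∈ N := hh ▸ mem_zpowers x
        have h1 := orderOf_dvd_of_pow_eq_one (hexp x hxN)
        rw [hxo] at h1
        norm_num at h1
      · exact hNne hh
      · rw [hh, Nat.card_zpowers, orderOf_eq_prime hz2 hz1] at hbig
        omega
  have heq : ∀ P : Sylow s X, (P : Subgroup X) = pCore s X := fun P =>
    le_antisymm ((hPle P).trans hNle) (PCore.pCore_le_sylow P)
  have hcore : pCore s X = N := le_antisymm ((PCore.pCore_le_sylow default).trans (hPle default)) hNle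
  exact ⟨heq, fun x hx => hexp x (hcore ▸ hx), hcore.symm ▸ hNc⟩

/-- The Sylow subgroups when no elementary abelian normal subgroup is noncyclic. -/
theorem sylow_of_no_elementary [Group.IsSolvable X] (hB : HB X)
    (hFA : ∀ (q : ℕ) [Fact q.Prime] (M : Subgroup X), M.Normal → IsMulCommutative ↥M →
      (∀ x ∈ M, x ^ q = 1) → IsCyclic ↥M) :
    ∀ (q : ℕ) [Fact q.Prime] (Q : Sylow q X), IsCyclic ↥(Q : Subgroup X) ∨
      (q = 2 ∧ (Q : Subgroup X).Normal ∧ Nonempty (↥(Q : Subgroup X) ≃* QuaternionGroup 2)) := by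
  have hexpbot : ∀ (q : ℕ) [Fact q.Prime] (Q : Sylow q X), ¬ IsCyclic ↥(Q : Subgroup X) →
      (∀ x ∈ (Q : Subgroup X), x ^ q = 1) → pCore q X = ⊥ := by
    intro q hq Q hnc hexp
    by_contra hne
    have hpn : (pCore q X).Normal := sSup_normal _ fun _ h => h.1
    obtain ⟨N, r, hN, hNle, hNne, hmin, hNc, -, -⟩ :=
      Solvable.exists_abelian_minimal_normal (K := pCore q X) inferInstance hne
    have hNp : IsPGroup q N := (PCore.isPGroup_pCore (p := q)).to_le hNle
    have hNQ : N ≤ (Q : Subgroup X) := hNle.trans (PCore.pCore_le_sylow Q)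
    obtain ⟨k, hk⟩ := hNp.exists_card_eq
    have hk0 : k ≠ 0 := fun h0 => hNne (card_eq_one.1 (by rw [hk, h0, pow_zero]))
    obtain ⟨a, ha⟩ := exists_prime_orderOf_dvd_card' q (hk ▸ dvd_pow_self q hk0 : q ∣ Nat.card N)
    have hQN : (Q : Subgroup X) ≤ N := le_of_exp hB hexp a.2 (by rw [Subgroup.orderOf_coe, ha])
    have := hFA q N hN hNc fun x hx => hexp x (hNQ hx)
    exact hnc (isCyclic_of_le hQN)
  have hcore : ∀ r : ℕ, r.Prime → IsCyclic ↥(pCore r X) ∨
      (r = 2 ∧ (∀ Q : Sylow r X, (Q : Subgroup X) = pCore r X) ∧ Nonempty (↥(pCore r X) ≃* QuaternionGroup 2)) := by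
    intro r hr
    have := Fact.mk hr
    obtain ⟨R⟩ : Nonempty (Sylow r X) := inferInstance
    have hle := PCore.pCore_le_sylow (p := r) R
    by_cases hc : IsCyclic ↥(R : Subgroup X)
    · exact Or.inl (isCyclic_of_le hle)
    rcases sylow_types hB r R with h | h | ⟨rfl, ⟨e⟩⟩
    · exact absurd h hc
    · rw [hexpbot r R hc h]
      exact Or.inl inferInstance
    · by_cases heq : pCore 2 X = (R : Subgroup X)
      · refine Or.inr ⟨rfl, fun Q => le_antisymm ?_ (PCore.pCore_le_sylow Q),
          ⟨(MulEquiv.subgroupCongr heq).trans e⟩⟩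
        have : (R : Subgroup X).Normal := heq ▸ (sSup_normal _ fun _ h => h.1)
        have := Sylow.unique_of_normal R inferInstance
        rw [Subsingleton.elim Q R, heq]
      · exact Or.inl (isCyclic_of_lt e hle heq)
  intro q hq Q
  by_cases hc : IsCyclic ↥(Q : Subgroup X)
  · exact Or.inl hc
  have hcommAut : ∀ (r : ℕ), IsCyclic ↥(pCore r X) → ∀ a b : MulAut ↥(pCore r X), a * b = b * a := by
    intro r hr a b
    refine (IsCyclic.mulAutMulEquiv ↥(pCore r X)).injective ?_
    rw [map_mul, map_mul, mul_comm]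
  rcases sylow_types hB q Q with h | hexp | ⟨hq2, ⟨e⟩⟩
  · exact absurd h hc
  · exfalso
    have hbot := hexpbot q Q hc hexp
    have hcard : q < Nat.card ↥(Q : Subgroup X) := by
      by_contra hle
      exact hc (isCyclic_of_card_le_prime Q.2 (not_lt.1 hle))
    have hcent : ∀ r : ℕ, r.Prime → ∀ x ∈ (Q : Subgroup X), ∀ v ∈ pCore r X, x * v = v * x := by
      intro r hr
      have hrn : (pCore r X).Normal := sSup_normal _ fun _ h => h.1
      let ψ : X →* MulAut ↥(pCore r X) := MulAut.conjNormal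
      suffices hs : ∃ s ∈ (Q : Subgroup X), s ≠ 1 ∧ s ∈ ψ.ker by
        obtain ⟨s, hsQ, hs1, hsk⟩ := hs
        exact fun x hx => mem_ker_conjNormal.1
          (le_of_exp hB (K := ψ.ker) hexp hsk (orderOf_eq_prime (hexp s hsQ) hs1) hx)
      rcases hcore r hr with hcy | ⟨hr2, hR, ⟨e⟩⟩
      · have : Nontrivial ↥(Q : Subgroup X) :=
          Finite.one_lt_card_iff_nontrivial.1 (hq.out.one_lt.trans hcard)
        obtain ⟨⟨x, hx⟩, hx1⟩ := exists_ne (1 : ↥(Q : Subgroup X))
        have hx1' : x ≠ 1 := fun h => hx1 (Subtype.ext h)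
        obtain ⟨y, hy, hyx⟩ : ∃ y ∈ (Q : Subgroup X), y ∉ zpowers x := by
          by_contra hall
          push Not at hall
          have := card_le_of_le (show (Q : Subgroup X) ≤ zpowers x from hall)
          rw [Nat.card_zpowers, orderOf_eq_prime (hexp x hx) hx1'] at this
          omega
        have hy1 : y ≠ 1 := fun h => hyx (h ▸ one_mem _)
        obtain ⟨g, i, hi⟩ := mem_zpowers_conj hB
          ((orderOf_eq_prime (hexp x hx) hx1').trans (orderOf_eq_prime (hexp y hy) hy1).symm)
        beta_reduce at hi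
        refine ⟨y * (x ^ i)⁻¹, mul_mem hy (inv_mem (zpow_mem hx i)), fun h => ?_, ?_⟩
        · exact hyx (mul_inv_eq_one.1 h ▸ zpow_mem (mem_zpowers x) i)
        · rw [MonoidHom.mem_ker, map_mul, map_inv, mul_inv_eq_one, ← hi, conj_zpow, map_mul, map_mul,
            map_inv, hcommAut r hcy (ψ g), mul_inv_cancel_right]
      · -- a quaternion core: two elements act alike on a generator
        subst hr2
        obtain ⟨i, hi, j, hj, hi2, -, -, hcom, -, hgen⟩ := exists_ijk e
        have hij : i * j ≠ j * i := fun h => hi2 (by rw [hcom, h]; group)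
        have hq2 : q ≠ 2 := by
          rintro rfl
          exact hi2 (hexp i (by rw [hR Q]; exact hi))
        have hq3 : 3 ≤ q := by have := hq.out.two_le; omega
        have hlt : Nat.card ↥(pCore 2 X) < Nat.card ↥(Q : Subgroup X) := by
          obtain ⟨n, hn⟩ := Q.2.exists_card_eq
          rw [card_eight e, hn]
          have : 2 ≤ n := by
            by_contra h2
            have := Nat.pow_le_pow_right hq.out.pos (show n ≤ 1 by omega)
            rw [hn] at hcard
            rw [pow_one] at this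
            omega
          calc 8 < 3 ^ 2 := by norm_num
            _ ≤ q ^ 2 := Nat.pow_le_pow_left hq3 2
            _ ≤ q ^ n := Nat.pow_le_pow_right hq.out.pos this
        let F : ↥(Q : Subgroup X) → ↥(pCore 2 X) := fun x =>
          ⟨(x : X) * i * (x : X)⁻¹, hrn.conj_mem i hi x⟩
        obtain ⟨x, y, hne, hFxy⟩ : ∃ x y, x ≠ y ∧ F x = F y := by
          by_contra hall
          push Not at hall
          exact absurd (Nat.card_le_card_of_injective F fun a b hab => by
            by_contra hne; exact hall a b hne hab) (not_le.2 hlt)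
        have hFxy' : (x : X) * i * (x : X)⁻¹ = (y : X) * i * (y : X)⁻¹ := congrArg Subtype.val hFxy
        set s : X := (x : X)⁻¹ * y with hsdef
        have hsi : s * i * s⁻¹ = i := by
          calc s * i * s⁻¹ = (x : X)⁻¹ * ((y : X) * i * (y : X)⁻¹) * x := by rw [hsdef]; group
            _ = (x : X)⁻¹ * ((x : X) * i * (x : X)⁻¹) * x := by rw [← hFxy']
            _ = i := by group
        have hsQ : s ∈ (Q : Subgroup X) := mul_mem (inv_mem x.2) y.2
        refine ⟨s, hsQ, fun h => hne (Subtype.ext (inv_mul_eq_one.1 h)), ?_⟩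
        refine mem_ker_conjNormal.2 fun v hv => ?_
        have hsc : Commute s i := mul_inv_eq_iff_eq_mul.1 hsi
        have hcj : Commute s j := commute_of_conj e hi hj hij hsc (hexp s hsQ)
          (hrn.conj_mem j hj s) ((Nat.coprime_primes hq.out Nat.prime_two).2 hq2)
        exact (mem_centralizer_singleton_iff.1 (hgen (centralizer {s})
          (mem_centralizer_singleton_iff.2 hsc.eq.symm) (mem_centralizer_singleton_iff.2 hcj.eq.symm) hv)).symm
    have hQF : (Q : Subgroup X) ≤ fittingSubgroup X := fun x hx => mem_fitting fun p hp => hcent p hp x hx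
    have := le_pCore_of_le_fitting Q.2 hQF
    rw [hbot, le_bot_iff] at this
    rw [this, card_bot] at hcard
    exact absurd hcard (not_lt.2 hq.out.one_le)
  · subst hq2
    refine Or.inr ⟨rfl, ?_, ⟨e⟩⟩
    rcases hcore 2 Nat.prime_two with hcy | ⟨-, hR, -⟩
    swap
    · rw [hR Q]
      exact sSup_normal _ fun _ h => h.1
    exfalso
    obtain ⟨i, hi, j, hj, hi2, hj2, hij2, hcom, -, hgen⟩ := exists_ijk e
    have hk : ∀ r : ℕ, r.Prime → ∀ x ∈ (Q : Subgroup X), ∀ v ∈ pCore r X, x * v = v * x := by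
      intro r hr
      have hrn : (pCore r X).Normal := sSup_normal _ fun _ h => h.1
      have hcr : IsCyclic ↥(pCore r X) := by
        rcases hcore r hr with h | ⟨hr2, -⟩
        · exact h
        · exact hr2 ▸ hcy
      let ψ : X →* MulAut ↥(pCore r X) := MulAut.conjNormal
      have hc' := hcommAut r hcr
      have hrel : ∀ x ∈ (Q : Subgroup X), ∀ y ∈ (Q : Subgroup X), x ^ 2 ≠ 1 → y ^ 2 ≠ 1 →
          ψ y ∈ zpowers (ψ x) := by
        intro x hx y hy hx2 hy2
        obtain ⟨g, n, hn⟩ := mem_zpowers_conj hB ((orderOf_four e hx hx2).trans (orderOf_four e hy hy2).symm)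
        beta_reduce at hn
        refine ⟨n, ?_⟩
        show ψ x ^ n = ψ y
        rw [← hn, map_zpow, map_mul, map_mul, map_inv, hc' (ψ g) (ψ x), mul_inv_cancel_right]
      have hi2' : ψ i ^ 2 = 1 := by
        rw [← map_pow, hcom, map_mul, map_mul, map_mul, map_inv, map_inv, hc' (ψ i) (ψ j),
          mul_inv_cancel_right, mul_inv_cancel]
      have hpow : ∀ y, y ∈ zpowers (ψ i) → y = 1 ∨ y = ψ i := by
        rintro y ⟨n, rfl⟩
        beta_reduce
        rw [← Int.emod_add_mul_ediv n 2, zpow_add, zpow_mul, zpow_two, ← sq, hi2', one_zpow, mul_one]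
        rcases Int.emod_two_eq_zero_or_one n with h | h <;> rw [h] <;> simp
      have hi1 : ψ i = 1 := by
        by_contra hne
        have hne' : ∀ y ∈ (Q : Subgroup X), y ^ 2 ≠ 1 → ψ y = ψ i := by
          intro y hy hy2
          rcases hpow _ (hrel i hi y hy hi2 hy2) with h | h
          · have := hrel y hy i hi hy2 hi2
            rw [h, zpowers_one_eq_bot, mem_bot] at this
            exact absurd this hne
          · exact h
        have h1 := hne' j hj hj2
        have h2 := hne' (i * j) (mul_mem hi hj) hij2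
        rw [map_mul, h1, mul_eq_left] at h2
        exact hne h2
      have hj1 : ψ j = 1 := by
        rcases hpow _ (hrel i hi j hj hi2 hj2) with h | h
        · exact h
        · rw [h, hi1]
      exact fun x hx => mem_ker_conjNormal.1
        (hgen ψ.ker (MonoidHom.mem_ker.2 hi1) (MonoidHom.mem_ker.2 hj1) hx)
    have hQF : (Q : Subgroup X) ≤ fittingSubgroup X := fun x hx => mem_fitting fun p hp => hk p hp x hx
    exact hc (isCyclic_of_le (le_pCore_of_le_fitting Q.2 hQF))

end Cfsg.Agent.BGroups
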